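import Cfsg.Agent.Lib.Solv.BaerQ.Orbit
import Cfsg.Agent.Lib.Solv.Coprime
import Cfsg.Agent.Lib.Fusion.Cores
import Cfsg.Agent.Lib.Char.TISimpleSocle

/-!
Elements with prime power class size.
-/

set_option autoImplicit false
set_option linter.style.haveILetI false

open Cfsg

namespace Cfsg.Agent.Solv.BaerQ

universe u

variable {G : Type u} [Group G] [Finite G]

/-- The conjugacy class. -/
def cls (x : G) : Set G := {v | ∃ g : G, g * x * g⁻¹ = v}

theorem card_cls (x : G) : Nat.card (cls x) = (Subgroup.centralizer ({x} : Set G)).index := by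
  have h : cls x = MulAction.orbit (ConjAct G) x := by
    ext v
    constructor
    · rintro ⟨g, rfl⟩
      exact ⟨ConjAct.toConjAct g, by simp [ConjAct.smul_def]⟩
    · rintro ⟨g, rfl⟩
      exact ⟨ConjAct.ofConjAct g, by simp [ConjAct.smul_def]⟩
  rw [h, Nat.card_coe_set_eq, ← MulAction.index_stabilizer, ConjAct.stabilizer_eq_centralizer]
  rfl

/-- A subgroup of index prime to `p` contains a Sylow `p`-subgroup. -/
theorem exists_sylow_le {p : ℕ} [hp : Fact p.Prime] (C : Subgroup G) (h : ¬ p ∣ C.index) :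
    ∃ S : Sylow p G, (S : Subgroup G) ≤ C := by
  obtain ⟨P⟩ : Nonempty (Sylow p C) := inferInstance
  refine ⟨Sylow.ofCard ((P : Subgroup C).map C.subtype) ?_, by rw [Sylow.coe_ofCard]; exact Subgroup.map_subtype_le _⟩
  rw [Subgroup.card_map_of_injective C.subtype_injective, P.card_eq_multiplicity, ← C.card_mul_index,
    Nat.factorization_mul Nat.card_pos.ne' Subgroup.index_ne_zero_of_finite, Finsupp.add_apply,
    Nat.factorization_eq_zero_of_not_dvd h, add_zero]

theorem not_dvd_pow {p q a : ℕ} (hp : p.Prime) (hq : q.Prime) (h : p ≠ q) : ¬ p ∣ q ^ a := fun hd =>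
  h ((Nat.prime_dvd_prime_iff_eq hp hq).1 (hp.dvd_of_dvd_pow hd))

variable {p q : ℕ} [hp : Fact p.Prime] [hq : Fact q.Prime]

omit hp in
/-- An element with class of `q`-power size lies in `O_q(G)`. -/
theorem mem_pCore_of_index {x : G} (hx : ∃ k, orderOf x = q ^ k) {a : ℕ}
    (ha : (Subgroup.centralizer ({x} : Set G)).index = q ^ a) : x ∈ pCore q G := by
  obtain ⟨k, hk⟩ := hx
  obtain ⟨S, hS⟩ := (IsPGroup.of_card (G := Subgroup.zpowers x) (p := q) (n := k)
    (by rw [Nat.card_zpowers, hk])).exists_le_sylow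
  have hxS : x ∈ (S : Subgroup G) := hS (Subgroup.mem_zpowers x)
  have hle : Subgroup.normalClosure ({x} : Set G) ≤ (S : Subgroup G) := by
    refine (Subgroup.closure_le _).2 fun v hv => ?_
    obtain ⟨z, hz, hc⟩ := Group.mem_conjugatesOfSet_iff.1 hv
    rw [Set.mem_singleton_iff] at hz
    subst hz
    obtain ⟨g, rfl⟩ := isConj_iff.1 hc
    obtain ⟨u, hu, c, hcc, rfl⟩ := exists_mul_of_index _ ha S g
    rw [Subgroup.mem_centralizer_singleton_iff] at hcc
    rw [show u * c * z * (u * c)⁻¹ = u * (c * z * c⁻¹) * u⁻¹ by group, hcc, mul_inv_cancel_right]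
    exact mul_mem (mul_mem hu hxS) (inv_mem hu)
  exact Fusion.le_pCore (S.isPGroup'.to_le hle) (Subgroup.subset_normalClosure rfl)

omit hq in
/-- Supplement: if `C(y)` has index prime to `p` and `C(x)` index a power of `p`, then `G = C(y) C(x)`. -/
theorem exists_supp {x y : G} {a : ℕ} (ha : (Subgroup.centralizer ({x} : Set G)).index = p ^ a)
    (hy : ¬ p ∣ (Subgroup.centralizer ({y} : Set G)).index) (g : G) :
    ∃ c, c * y = y * c ∧ ∃ d, d * x = x * d ∧ g = c * d := by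
  obtain ⟨S, hS⟩ := exists_sylow_le _ hy
  obtain ⟨u, hu, c, hc, rfl⟩ := exists_mul_of_index _ ha S g
  exact ⟨u, Subgroup.mem_centralizer_singleton_iff.1 (hS hu), c, Subgroup.mem_centralizer_singleton_iff.1 hc, rfl⟩

theorem conj_comm {c x : G} (h : c * x = x * c) : c * x * c⁻¹ = x := by rw [h, mul_inv_cancel_right]

omit hq in
/-- Pairs of conjugates are simultaneous conjugates. -/
theorem exists_pair {x y : G} {a : ℕ} (ha : (Subgroup.centralizer ({x} : Set G)).index = p ^ a)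
    (hb : ¬ p ∣ (Subgroup.centralizer ({y} : Set G)).index) {u w : G} (hu : u ∈ cls x) (hw : w ∈ cls y) :
    ∃ g : G, g * x * g⁻¹ = u ∧ g * y * g⁻¹ = w := by
  obtain ⟨g, rfl⟩ := hu
  obtain ⟨h, rfl⟩ := hw
  obtain ⟨c, hc, d, hd, he⟩ := exists_supp ha hb (h⁻¹ * g)
  have hg : g = h * c * d := by rw [mul_assoc, ← he, mul_inv_cancel_left]
  refine ⟨h * c, ?_, ?_⟩
  · rw [hg, show h * c * d * x * (h * c * d)⁻¹ = h * c * (d * x * d⁻¹) * (h * c)⁻¹ by group, conj_comm hd]
  · rw [show h * c * y * (h * c)⁻¹ = h * (c * y * c⁻¹) * h⁻¹ by group, conj_comm hc]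

omit hq in
theorem commute_cls {x y : G} {a : ℕ} (ha : (Subgroup.centralizer ({x} : Set G)).index = p ^ a)
    (hb : ¬ p ∣ (Subgroup.centralizer ({y} : Set G)).index) (hxy : x * y = y * x) {u w : G} (hu : u ∈ cls x)
    (hw : w ∈ cls y) : u * w = w * u := by
  obtain ⟨g, rfl, rfl⟩ := exists_pair ha hb hu hw
  calc g * x * g⁻¹ * (g * y * g⁻¹) = g * (x * y) * g⁻¹ := by group
    _ = g * y * g⁻¹ * (g * x * g⁻¹) := by rw [hxy]; group

/-- If the class of `x` absorbs the defects of the class of `y`, then `y` is central. -/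
theorem full_false {x y : G} {a : ℕ} (hpq : p ≠ q) (hy : ∃ k, orderOf y = q ^ k) (hxy : x * y = y * x)
    (ha : (Subgroup.centralizer ({x} : Set G)).index = p ^ a)
    (hb : ¬ p ∣ (Subgroup.centralizer ({y} : Set G)).index)
    (hy1 : (Subgroup.centralizer ({y} : Set G)).index ≠ 1)
    (hfull : ∀ v ∈ cls y, x * y * v⁻¹ ∈ cls x) : False := by
  obtain ⟨v, hv, hvy⟩ : ∃ v ∈ cls y, v ≠ y := by
    by_contra hall
    push Not at hall
    apply hy1
    rw [← card_cls, Nat.card_eq_one_iff_unique]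
    exact ⟨⟨fun s t => Subtype.ext ((hall s s.2).trans (hall t t.2).symm)⟩, ⟨⟨y, 1, by group⟩⟩⟩
  -- `v` commutes with `y`
  have hvx : x * v = v * x := commute_cls ha hb hxy ⟨1, by group⟩ hv
  have hvu : (x * y * v⁻¹) * v = v * (x * y * v⁻¹) := commute_cls ha hb hxy (hfull v hv) hv
  have hvyc : Commute y v := by
    rw [inv_mul_cancel_right] at hvu
    have : x * (y * v) = x * (v * y) := by
      calc x * (y * v) = (x * y) * v := by rw [mul_assoc]
        _ = v * (x * y * v⁻¹) * v := by rw [← hvu]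
        _ = v * (x * y) := by group
        _ = x * (v * y) := by rw [← mul_assoc, ← hvx, mul_assoc]
    exact mul_left_cancel this
  set z := y * v⁻¹ with hz
  have hz1 : z ≠ 1 := fun e => hvy (mul_inv_eq_one.1 e).symm
  obtain ⟨k, hk⟩ := hy
  have hzq : z ^ q ^ k = 1 := by
    obtain ⟨h, rfl⟩ := hv
    rw [hz, hvyc.inv_right.mul_pow, ← hk, pow_orderOf_eq_one, inv_pow, conj_pow, pow_orderOf_eq_one, mul_one,
      mul_inv_cancel, inv_one, one_mul]
  have hmul : ∀ u ∈ cls x, u * z ∈ cls x := by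
    rintro _ ⟨g, rfl⟩
    obtain ⟨c, hc, d, hd, rfl⟩ := exists_supp ha hb g
    have hcv : c⁻¹ * v * c ∈ cls y := by
      obtain ⟨h, rfl⟩ := hv
      exact ⟨c⁻¹ * h, by group⟩
    obtain ⟨h, hh⟩ := hfull _ hcv
    refine ⟨c * h, ?_⟩
    rw [show c * h * x * (c * h)⁻¹ = c * (h * x * h⁻¹) * c⁻¹ by group, hh,
      show c * d * x * (c * d)⁻¹ = c * (d * x * d⁻¹) * c⁻¹ by group, conj_comm hd, hz]
    calc c * (x * y * (c⁻¹ * v * c)⁻¹) * c⁻¹ = c * x * c⁻¹ * (c * y * c⁻¹) * v⁻¹ := by group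
      _ = c * x * c⁻¹ * (y * v⁻¹) := by rw [conj_comm hc, mul_assoc]
  -- translation by `z` is free
  have hpre : (QuotientGroup.mk : G → G ⧸ Subgroup.zpowers z) ⁻¹'
      ((QuotientGroup.mk : G → G ⧸ Subgroup.zpowers z) '' cls x) = cls x := by
    refine subset_antisymm ?_ (Set.subset_preimage_image _ _)
    rintro w ⟨u, hu, he⟩
    obtain ⟨i, hi⟩ := (Submonoid.mem_powers_iff _ _).1 ((isOfFinOrder_of_finite z).mem_powers_iff_mem_zpowers.2
      (QuotientGroup.eq.1 he))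
    have : ∀ i : ℕ, u * z ^ i ∈ cls x := by
      intro i
      induction i with
      | zero => simpa using hu
      | succ i ih => rw [pow_succ, ← mul_assoc]; exact hmul _ ih
    have h9 := this i
    rwa [hi, mul_inv_cancel_left] at h9
  have hdvd : orderOf z ∣ p ^ a := by
    have h1 := Nat.card_congr (QuotientGroup.preimageMkEquivSubgroupProdSet (Subgroup.zpowers z)
      ((QuotientGroup.mk : G → G ⧸ Subgroup.zpowers z) '' cls x))
    rw [hpre, Nat.card_prod, Nat.card_zpowers, card_cls, ha] at h1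
    exact ⟨_, h1⟩
  have h2 : orderOf z ∣ q ^ k := orderOf_dvd_of_pow_eq_one hzq
  exact hz1 (orderOf_eq_one_iff.1 (Nat.eq_one_of_dvd_coprimes
    (Nat.Coprime.pow a k ((Nat.coprime_primes hp.out hq.out).2 hpq)) hdvd h2))

omit hp in
/-- Two commuting elements of `q`-power order have class sizes powers of the same prime. -/
theorem two_prime_false {p r s : ℕ} [Fact p.Prime] [Fact r.Prime] (hs : s.Prime) {x y : G} {a b c : ℕ}
    (hpr : p ≠ r) (hpq : p ≠ q) (hrq : r ≠ q) (hx : ∃ k, orderOf x = q ^ k) (hy : ∃ k, orderOf y = q ^ k)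
    (hxy : x * y = y * x)
    (ha : (Subgroup.centralizer ({x} : Set G)).index = p ^ a) (ha1 : (Subgroup.centralizer ({x} : Set G)).index ≠ 1)
    (hb : (Subgroup.centralizer ({y} : Set G)).index = r ^ b) (hb1 : (Subgroup.centralizer ({y} : Set G)).index ≠ 1)
    (hc : (Subgroup.centralizer ({x * y} : Set G)).index = s ^ c) : False := by
  classical
  have hpp : p.Prime := Fact.out
  have hrp : r.Prime := Fact.out
  have hbp : ¬ p ∣ (Subgroup.centralizer ({y} : Set G)).index := hb ▸ not_dvd_pow hpp hrp hpr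
  have hap : ¬ r ∣ (Subgroup.centralizer ({x} : Set G)).index := ha ▸ not_dvd_pow hrp hpp hpr.symm
  let μ : cls x × cls y → cls (x * y) := fun t => ⟨(t.1 : G) * t.2, by
    obtain ⟨g, h1, h2⟩ := exists_pair ha hbp t.1.2 t.2.2
    exact ⟨g, by rw [← h1, ← h2]; group⟩⟩
  let Δ := {v : cls y // x * y * (v : G)⁻¹ ∈ cls x}
  have hfib : ∀ w : cls (x * y), Nat.card {t : cls x × cls y // μ t = w} = Nat.card Δ := by
    rintro ⟨_, g, rfl⟩
    have hmem : ∀ (z u h : G), u ∈ cls z → h * u * h⁻¹ ∈ cls z := by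
      rintro z _ h ⟨k, rfl⟩
      exact ⟨h * k, by group⟩
    refine Nat.card_congr
      { toFun := fun t => ⟨⟨g⁻¹ * t.1.2 * g⁻¹⁻¹, hmem y _ g⁻¹ t.1.2.2⟩, ?_⟩
        invFun := fun v => ⟨(⟨g * (x * y * (v.1 : G)⁻¹) * g⁻¹, hmem x _ g v.2⟩,
          ⟨g * v.1 * g⁻¹, hmem y _ g v.1.2⟩), Subtype.ext (by simp [μ, mul_assoc])⟩
        left_inv := ?_
        right_inv := fun v => Subtype.ext (Subtype.ext (by simp [mul_assoc])) }
    · have h : (t.1.1 : G) * t.1.2 = g * (x * y) * g⁻¹ := congrArg Subtype.val t.2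
      have : x * y * (g⁻¹ * (t.1.2 : G) * g⁻¹⁻¹)⁻¹ = g⁻¹ * t.1.1 * g⁻¹⁻¹ := by
        calc x * y * (g⁻¹ * (t.1.2 : G) * g⁻¹⁻¹)⁻¹ = g⁻¹ * (g * (x * y) * g⁻¹) * (t.1.2 : G)⁻¹ * g := by group
          _ = g⁻¹ * ((t.1.1 : G) * t.1.2) * (t.1.2 : G)⁻¹ * g :=
            congrArg (fun s => g⁻¹ * s * (t.1.2 : G)⁻¹ * g) h.symm
          _ = g⁻¹ * t.1.1 * g⁻¹⁻¹ := by group
      show x * y * (g⁻¹ * (t.1.2 : G) * g⁻¹⁻¹)⁻¹ ∈ cls x
      rw [this]
      exact hmem x _ g⁻¹ t.1.1.2
    · intro t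
      have h : (t.1.1 : G) * t.1.2 = g * (x * y) * g⁻¹ := congrArg Subtype.val t.2
      refine Subtype.ext (Prod.ext (Subtype.ext ?_) (Subtype.ext (by simp [mul_assoc])))
      show g * (x * y * (g⁻¹ * (t.1.2 : G) * g⁻¹⁻¹)⁻¹) * g⁻¹ = t.1.1
      calc g * (x * y * (g⁻¹ * (t.1.2 : G) * g⁻¹⁻¹)⁻¹) * g⁻¹ = g * (x * y) * g⁻¹ * (t.1.2 : G)⁻¹ := by group
        _ = (t.1.1 : G) * t.1.2 * (t.1.2 : G)⁻¹ := congrArg (fun s => s * (t.1.2 : G)⁻¹) h.symm
        _ = t.1.1 := mul_inv_cancel_right _ _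
  have hcount : p ^ a * r ^ b = s ^ c * Nat.card Δ := by
    haveI := Fintype.ofFinite (cls (x * y))
    rw [← ha, ← hb, ← hc, ← card_cls, ← card_cls, ← card_cls, ← Nat.card_prod,
      ← Nat.card_congr (Equiv.sigmaFiberEquiv μ), Nat.card_sigma, Finset.sum_congr rfl fun w _ => hfib w,
      Finset.sum_const, Finset.card_univ, smul_eq_mul, Nat.card_eq_fintype_card (α := cls (x * y))]
  have hpos : 0 < Nat.card Δ := by
    haveI : Nonempty Δ := ⟨⟨⟨y, 1, by group⟩, by
      show x * y * y⁻¹ ∈ cls x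
      rw [mul_inv_cancel_right]; exact ⟨1, by group⟩⟩⟩
    exact Nat.card_pos
  by_cases hsr : s = r
  · subst hsr
    have hd : p ^ a ∣ Nat.card Δ := (Nat.Coprime.pow a c ((Nat.coprime_primes hpp hs).2 hpr)).dvd_of_dvd_mul_left
      (hcount ▸ dvd_mul_right _ _)
    let j : Δ → cls x := fun v => ⟨_, v.2⟩
    have hj : Function.Injective j := fun v w h => Subtype.ext (Subtype.ext
      (inv_injective (mul_left_cancel (congrArg Subtype.val h : x * y * (v.1 : G)⁻¹ = x * y * (w.1 : G)⁻¹))))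
    have hcard : Nat.card (cls x) ≤ Nat.card Δ := by rw [card_cls, ha]; exact Nat.le_of_dvd hpos hd
    have hbij := (Nat.bijective_iff_injective_and_card j).2 ⟨hj, le_antisymm (Nat.card_le_card_of_injective j hj) hcard⟩
    refine full_false (p := s) (q := q) hrq hx hxy.symm hb hap ha1 fun u hu => ?_
    obtain ⟨v, hv⟩ := hbij.2 ⟨u, hu⟩
    have he : x * y * (v.1 : G)⁻¹ = u := congrArg Subtype.val hv
    have hcm : u * (v.1 : G) = v.1 * u := commute_cls ha hbp hxy hu v.1.2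
    have hxyv : x * y = (v.1 : G) * u := by
      refine Eq.trans ?_ hcm
      refine Eq.trans ?_ (congrArg (fun s => s * (v.1 : G)) he)
      exact (inv_mul_cancel_right (x * y) (v.1 : G)).symm
    have : y * x * u⁻¹ = (v.1 : G) :=
      calc y * x * u⁻¹ = x * y * u⁻¹ := congrArg (· * u⁻¹) hxy.symm
        _ = v.1 * u * u⁻¹ := congrArg (· * u⁻¹) hxyv
        _ = v.1 := mul_inv_cancel_right _ _
    rw [this]
    exact v.1.2
  · have hd : r ^ b ∣ Nat.card Δ := (Nat.Coprime.pow b c ((Nat.coprime_primes hrp hs).2 (Ne.symm hsr))).dvd_of_dvd_mul_left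
      (hcount ▸ dvd_mul_left _ _)
    have hcard : Nat.card (cls y) ≤ Nat.card Δ := by rw [card_cls, hb]; exact Nat.le_of_dvd hpos hd
    have hinj : Function.Injective (Subtype.val : Δ → cls y) := Subtype.val_injective
    have hbij := (Nat.bijective_iff_injective_and_card _).2
      ⟨hinj, le_antisymm (Nat.card_le_card_of_injective _ hinj) hcard⟩
    refine full_false (p := p) (q := q) hpq hy hxy ha hbp hb1 fun v hv => ?_
    obtain ⟨v', hv'⟩ := hbij.2 ⟨v, hv⟩
    have := v'.2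
    rwa [hv'] at this

omit hq in
/-- Commutators of `O_{q'}(G)` with an element having class of `p`-power size lie in `O_p(G)`. -/
theorem comm_mem_pCore {q : ℕ} {x : G} (hxc : (orderOf x).Coprime (Nat.card (pPrimeCore q G))) {a : ℕ}
    (ha : (Subgroup.centralizer ({x} : Set G)).index = p ^ a) :
    ∀ k ∈ pPrimeCore q G, x * k * x⁻¹ * k⁻¹ ∈ pCore p G := by
  classical
  haveI hKn : (pPrimeCore q G).Normal := Solv.pPrimeCore_normal q
  set K := pPrimeCore q G
  set A := Subgroup.zpowers x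
  have hAK : A ≤ Subgroup.normalizer (K : Set G) := by rw [Subgroup.normalizer_eq_top]; exact le_top
  have hco : (Nat.card A).Coprime (Nat.card K) := by rw [Nat.card_zpowers]; exact hxc
  have hsolA : Group.IsSolvable A := by
    letI : CommGroup A := IsCyclic.commGroup
    infer_instance
  obtain ⟨P0, hP0, hP0A⟩ := Solv.exists_invariant_sylow hAK hco (Or.inl hsolA) p
  obtain ⟨P', hP'⟩ := hP0.exists_sylow
  have hxP0 : x ∈ Subgroup.normalizer (P0 : Set G) := hP0A (Subgroup.mem_zpowers x)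
  obtain ⟨j, hj⟩ : ∃ j, ((Subgroup.centralizer ({x} : Set G)).subgroupOf K).index = p ^ j := by
    have h2 : (Subgroup.centralizer ({x} : Set G)).relIndex K ∣ p ^ a := by
      rw [← ha]
      obtain ⟨t, ht⟩ := Subgroup.relIndex_dvd_index_of_normal K (Subgroup.centralizer ({x} : Set G))
      have hI := Subgroup.relIndex_mul_index (inf_le_right : Subgroup.centralizer ({x} : Set G) ⊓ K ≤ K)
      have hJ := Subgroup.relIndex_mul_index
        (inf_le_left : Subgroup.centralizer ({x} : Set G) ⊓ K ≤ Subgroup.centralizer ({x} : Set G))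
      rw [Subgroup.inf_relIndex_right] at hI
      rw [Subgroup.inf_relIndex_left, ← hI, ht] at hJ
      refine ⟨t, Nat.eq_of_mul_eq_mul_left (n := K.relIndex (Subgroup.centralizer ({x} : Set G)))
        (Nat.pos_of_ne_zero ?_) ?_⟩
      · exact fun e => Subgroup.index_ne_zero_of_finite (H := K) (by rw [ht, e, zero_mul])
      · rw [hJ]; ring
    obtain ⟨j, -, hj⟩ := (Nat.dvd_prime_pow hp.out).1 h2
    exact ⟨j, hj⟩
  have hgenP : ∀ k ∈ K, x * k * x⁻¹ * k⁻¹ ∈ P0 := by
    intro k hk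
    obtain ⟨u, hu, c, hc, he⟩ := exists_mul_of_index _ hj P' ⟨k, hk⟩
    have hk' : k = (u : G) * c := congrArg Subtype.val he
    have hu0 : (u : G) ∈ P0 := hP' ▸ ⟨u, hu, rfl⟩
    have hcx : (c : G) * x = x * c := Subgroup.mem_centralizer_singleton_iff.1 hc
    rw [hk', show x * ((u : G) * c) * x⁻¹ * ((u : G) * c)⁻¹ = x * u * x⁻¹ * (x * c * x⁻¹ * (c : G)⁻¹) * (u : G)⁻¹ by group,
      ← hcx, mul_inv_cancel_right, mul_inv_cancel, mul_one]
    exact mul_mem ((Subgroup.mem_normalizer_iff.1 hxP0 _).1 hu0) (inv_mem hu0)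
  set N := Subgroup.closure {w : G | ∃ k ∈ K, w = x * k * x⁻¹ * k⁻¹} with hN
  have hNP : N ≤ P0 := (Subgroup.closure_le _).2 fun w ⟨k, hk, hw⟩ => hw ▸ hgenP k hk
  have hNK : N ≤ K := hNP.trans hP0.1
  haveI hNn : (N.subgroupOf K).Normal := by
    refine Subgroup.normal_subgroupOf_of_le_normalizer fun k hk => Fusion.mem_normalizer_of_cj_le ?_
    rw [Fusion.cj, hN, MonoidHom.map_closure]
    refine (Subgroup.closure_le _).2 ?_
    rintro _ ⟨_, ⟨m, hm, rfl⟩, rfl⟩
    show k * (x * m * x⁻¹ * m⁻¹) * k⁻¹ ∈ N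
    rw [show k * (x * m * x⁻¹ * m⁻¹) * k⁻¹ =
      (x * k * x⁻¹ * k⁻¹)⁻¹ * (x * (k * m) * x⁻¹ * (k * m)⁻¹) by group]
    exact mul_mem (inv_mem (Subgroup.subset_closure ⟨k, hk, rfl⟩)) (Subgroup.subset_closure ⟨_, mul_mem hk hm, rfl⟩)
  have h1 : N.subgroupOf K ≤ pCore p K := Fusion.le_pCore
    ((hP0.isPGroup.to_le hNP).of_injective (Subgroup.subgroupOfEquivOfLe hNK).toMonoidHom
      (Subgroup.subgroupOfEquivOfLe hNK).injective)
  haveI := Char.TISocle.pCore_characteristic (G := ↥K) (p := p)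
  have h2 : (pCore p K).map K.subtype ≤ pCore p G := Fusion.le_pCore ((Fusion.isPGroup_pCore p K).map _)
  intro k hk
  exact h2 ⟨⟨_, hNK (Subgroup.subset_closure ⟨k, hk, rfl⟩)⟩, h1 (Subgroup.subset_closure ⟨k, hk, rfl⟩), rfl⟩

end Cfsg.Agent.Solv.BaerQ
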