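import Cfsg.Agent.Lib.Solv.BaerQ.Irreducible

/-!
Coprime groups of automorphisms of an abelian group with orbits of `p`-power length are solvable.
-/

set_option autoImplicit false
set_option linter.style.haveILetI false

namespace Cfsg.Agent.Solv.BaerQ

universe u

variable {K : Type u} [Group K] [Finite K] {W : Type u} [Group W] [Finite W] (φ : K →* MulAut W)
  {p q : ℕ} [hp : Fact p.Prime] [hq : Fact q.Prime]
  (hc : ∀ x y : W, x * y = y * x) (hWq : ∀ w : W, w ^ q = 1) (hW1 : Nontrivial W)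
  (hinj : Function.Injective φ) (horb : POrb φ p) (hperf : commutator K = ⊤) (hK1 : Nontrivial K)
  (hKq : (Nat.card K).Coprime q) (hpq : p ≠ q)
  (irr : ∀ U : Subgroup W, (∀ g : K, ∀ w ∈ U, φ g w ∈ U) → U = ⊥ ∨ U = ⊤)

omit [Finite K] in
include hperf in
theorem eq_top_of_cyclic_quotient (N : Subgroup K) [N.Normal] (hN : IsCyclic (K ⧸ N)) : N = ⊤ := by
  letI := IsCyclic.commGroup (α := K ⧸ N)
  have hcomm : commutator K ≤ N := by
    rw [commutator_def, Subgroup.commutator_le]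
    intro a _ b _
    rw [← QuotientGroup.eq_one_iff, commutatorElement_def, QuotientGroup.mk_mul, QuotientGroup.mk_mul,
      QuotientGroup.mk_mul, QuotientGroup.mk_inv, QuotientGroup.mk_inv,
      mul_comm ((a : K) : K ⧸ N) b, mul_assoc ((b : K) : K ⧸ N), mul_inv_cancel, mul_one, mul_inv_cancel]
  exact top_le_iff.1 (hperf ▸ hcomm)

omit [Finite W] hq in
include hp hc hW1 hinj horb hperf irr in
/-- The Sylow subgroup is cyclic, or `p = 2` and it has a cyclic subgroup of index two. -/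
theorem sylow_shape (hodd : p = 2 ∨ Odd (Nat.card K)) [Finite W] (P : Sylow p K) :
    IsCyclic (P : Subgroup K) ∨
      (p = 2 ∧ ∃ A : Subgroup ↥(P : Subgroup K), IsCyclic A ∧ A.index = 2 ∧ Subgroup.center ↥(P : Subgroup K) ≤ A) := by
  classical
  have hP := P.isPGroup'
  have hall : ∀ A : Subgroup ↥(P : Subgroup K), A.Normal → (∀ x ∈ A, ∀ y ∈ A, x * y = y * x) → IsCyclic A := by
    intro A hA hAc
    by_contra hncy
    have hu : ¬ UniqueOrderP p ↥A := fun hu => hncy (by
      obtain ⟨a, -, ha⟩ := abelian_cyclic_of_unique (hP.to_subgroup A) hu ⊤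
        fun x _ y _ => Subtype.ext (hAc x x.2 y y.2)
      exact isCyclic_iff_exists_zpowers_eq_top.2 ⟨a, ha.symm⟩)
    simp only [UniqueOrderP] at hu
    push Not at hu
    obtain ⟨x, y, hx, hy, hy1, hxy⟩ := hu
    let N : Subgroup ↥(P : Subgroup K) :=
      { carrier := {a | a ∈ A ∧ a ^ p = 1}
        one_mem' := ⟨one_mem A, one_pow p⟩
        mul_mem' := fun {a b} ha hb => ⟨mul_mem ha.1 hb.1, by
          rw [(show Commute a b from hAc a ha.1 b hb.1).mul_pow, ha.2, hb.2, one_mul]⟩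
        inv_mem' := fun {a} ha => ⟨inv_mem ha.1, by rw [inv_pow, ha.2, inv_one]⟩ }
    haveI hNn : N.Normal := ⟨fun a ha g => ⟨hA.conj_mem a ha.1 g, by rw [conj_pow, ha.2, mul_one, mul_inv_cancel]⟩⟩
    have hxN : (x : ↥(P : Subgroup K)) ∈ N := ⟨x.2, congrArg Subtype.val hx⟩
    have hyN : (y : ↥(P : Subgroup K)) ∈ N := ⟨y.2, congrArg Subtype.val hy⟩
    have hk : p ^ 2 ≤ Nat.card N := by
      obtain ⟨k, hk⟩ := IsPGroup.iff_card.1 (hP.to_subgroup N)
      have hle : Subgroup.zpowers (y : ↥(P : Subgroup K)) ≤ N := Subgroup.zpowers_le.2 hyN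
      have hlt : Nat.card (Subgroup.zpowers (y : ↥(P : Subgroup K))) < Nat.card N := by
        refine Nat.lt_of_le_of_ne (Subgroup.card_le_of_le hle) fun e => hxy ?_
        have h1 := Subgroup.eq_of_le_of_card_ge hle e.ge
        obtain ⟨i, hi⟩ := Subgroup.mem_zpowers_iff.1 (h1 ▸ hxN)
        exact Subgroup.mem_zpowers_iff.2 ⟨i, Subtype.ext hi⟩
      rw [Nat.card_zpowers, Subgroup.orderOf_coe, orderOf_eq_prime hy hy1, hk] at hlt
      rw [hk]
      exact Nat.pow_le_pow_right hp.out.pos (by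
        have := (Nat.pow_lt_pow_iff_right hp.out.one_lt).1 (by rwa [pow_one] : p ^ 1 < p ^ k)
        omega)
    obtain ⟨E, hEn, hEN, hEc⟩ := Fusion.exists_normal_le_of_card hP N 2 hk
    refine no_sq φ hc hW1 hinj horb hperf irr hodd P (E.map (P : Subgroup K).subtype) (Subgroup.map_subtype_le E)
      ?_ ?_ ?_ (by rw [Subgroup.card_map_of_injective (P : Subgroup K).subtype_injective, hEc])
    · rintro u hu _ ⟨a, ha, rfl⟩
      exact ⟨(⟨u, hu⟩ : ↥(P : Subgroup K))⁻¹ * a * ⟨u, hu⟩, by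
        simpa using hEn.conj_mem a ha (⟨u, hu⟩ : ↥(P : Subgroup K))⁻¹, rfl⟩
    · rintro _ ⟨a, ha, rfl⟩ _ ⟨b, hb, rfl⟩
      rw [← map_mul, ← map_mul, hAc a (hEN ha).1 b (hEN hb).1]
    · rintro _ ⟨a, ha, rfl⟩
      rw [← map_pow, (hEN ha).2, map_one]
  by_cases hab : ∀ x y : ↥(P : Subgroup K), x * y = y * x
  · left
    haveI := hall ⊤ inferInstance fun x _ y _ => hab x y
    exact isCyclic_of_surjective (Subgroup.topEquiv : (⊤ : Subgroup ↥(P : Subgroup K)) ≃* _) Subgroup.topEquiv.surjective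
  obtain ⟨A, hAn, hAc, hAC⟩ := exists_maximal_abelian_normal hP
  haveI := hAn
  obtain ⟨n, hn⟩ := IsPGroup.iff_card.1 (hP.to_subgroup A)
  have hA := hall A hAn hAc
  rcases S3761.result hP (fun h => hab fun x y => h.1.1 x y) A hA n hn hAC with ⟨h2, hcard, -⟩ | ⟨-, hel, hsq, hchar⟩
  · refine Or.inr ⟨h2, A, hA, ?_, ?_⟩
    · subst h2
      have h := A.card_mul_index
      rw [hn, hcard, pow_succ] at h
      exact Nat.eq_of_mul_eq_mul_left (pow_pos two_pos n) h
    · rw [← hAC]; exact Subgroup.center_le_centralizer _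
  · exfalso
    set R := Cfsg.omegaOne p (Subgroup.centralizer (Cfsg.powerClosure p 1 A : Set ↥(P : Subgroup K)))
    haveI := hchar
    have hRc := hall R inferInstance fun x hx y hy => congrArg Subtype.val (hel.1.1.1 ⟨x, hx⟩ ⟨y, hy⟩)
    obtain ⟨g, hg⟩ := hRc.exists_generator
    have h1 : orderOf g ∣ p := orderOf_dvd_of_pow_eq_one (Subtype.ext (hel.2 g g.2))
    rw [orderOf_eq_card_of_forall_mem_zpowers hg, hsq] at h1
    have := Nat.le_of_dvd hp.out.pos h1
    nlinarith [hp.out.two_le]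

include hp hq hc hWq hW1 hinj horb hperf hK1 hKq hpq irr in
/-- The case of odd `p`. -/
theorem odd_false (hp2 : p ≠ 2) : False := by
  classical
  have hodd : Odd (Nat.card K) := by
    rw [← Nat.not_even_iff_odd, even_iff_two_dvd]
    intro h2
    haveI : Fact (Nat.Prime 2) := ⟨Nat.prime_two⟩
    obtain ⟨t, ht⟩ := exists_prime_orderOf_dvd_card' 2 h2
    have hq2 : q ≠ 2 := fun h => by
      rw [h] at hKq
      exact absurd (Nat.eq_one_of_dvd_coprimes hKq h2 dvd_rfl) (by norm_num)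
    have htt : φ t * φ t = 1 := by rw [← map_mul, ← pow_two, ← ht, pow_orderOf_eq_one, map_one]
    have ht1 : φ t ≠ 1 := fun h => by
      rw [← map_one φ] at h
      rw [hinj h, orderOf_one] at ht
      norm_num at ht
    obtain ⟨w, hw⟩ : ∃ w, φ t w ≠ w := by
      by_contra hall; push Not at hall; exact ht1 (MulEquiv.ext hall)
    have hd : φ t (φ t w * w⁻¹) = (φ t w * w⁻¹)⁻¹ := by
      rw [map_mul, map_inv, mul_inv_rev, inv_inv, ← MulAut.mul_apply, htt, MulAut.one_apply]
    have hfix := line_fixed φ horb Nat.prime_two (Ne.symm hp2) (by rw [← ht, pow_orderOf_eq_one])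
      (d := φ t w * w⁻¹) (by rw [hd]; exact inv_mem (Subgroup.mem_zpowers _))
    rw [hd] at hfix
    have h2' : (φ t w * w⁻¹) ^ 2 = 1 := by rw [pow_two]; nth_rw 1 [← hfix]; exact inv_mul_cancel _
    have h3 : orderOf (φ t w * w⁻¹) ∣ 1 := by
      rw [← Nat.Coprime.gcd_eq_one ((Nat.coprime_primes Nat.prime_two hq.out).2 (Ne.symm hq2))]
      exact Nat.dvd_gcd (orderOf_dvd_of_pow_eq_one h2') (orderOf_dvd_of_pow_eq_one (hWq _))
    exact hw (mul_inv_eq_one.1 (orderOf_eq_one_iff.1 (Nat.dvd_one.1 h3)))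
  obtain ⟨w, hw⟩ := exists_ne (1 : W)
  obtain ⟨a, ha⟩ := horb w
  have hL : stab φ w ≠ ⊤ := fun h => hw (fixed_all φ hinj hperf hK1 irr fun g =>
    (mem_stab φ).1 (h ▸ Subgroup.mem_top g))
  obtain ⟨M, hM, hLM⟩ := (eq_top_or_exists_le_coatom (stab φ w)).resolve_left hL
  obtain ⟨P⟩ : Nonempty (Sylow p K) := inferInstance
  have hcyc : IsCyclic (P : Subgroup K) :=
    (sylow_shape φ hc hW1 hinj horb hperf irr (Or.inr hodd) P).resolve_right fun h => hp2 h.1
  obtain ⟨b, -, hb⟩ := (Nat.dvd_prime_pow hp.out).1 (ha ▸ Subgroup.index_dvd_of_le hLM)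
  have hb0 : b ≠ 0 := fun h => hM.1 (Subgroup.index_eq_one.1 (by rw [hb, h, pow_zero]))
  haveI := Fintype.ofFinite (K ⧸ M)
  set f : K →* Equiv.Perm (K ⧸ M) := MulAction.toPermHom K (K ⧸ M) with hf
  haveI htr : MulAction.IsPretransitive f.range (K ⧸ M) := ⟨fun x y => by
    obtain ⟨g, hg⟩ := MulAction.exists_smul_eq K x y
    exact ⟨⟨_, g, rfl⟩, hg⟩⟩
  refine perm_false hperf (Or.inr hodd) hp.out M hM.1 ?_
  rcases Nat.lt_or_ge b 2 with hb2 | hb2
  · have hprime : (Fintype.card (K ⧸ M)).Prime := by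
      rw [← Nat.card_eq_fintype_card]
      show M.index.Prime
      rw [hb, show b = 1 by omega, pow_one]
      exact hp.out
    rcases S0675.result hprime f.range with h | h
    · exact Or.inl h
    · exact Or.inr ⟨h, hp2⟩
  refine Or.inr ⟨?_, hp2⟩
  by_contra h2
  obtain ⟨g, hg⟩ := hcyc.exists_generator
  set g' : f.range := ⟨f g, g, rfl⟩ with hg'
  have htrg : ∀ x : K ⧸ M, ∃ k : ℤ, (g' ^ k) • ((1 : K) : K ⧸ M) = x := by
    intro x
    obtain ⟨y, rfl⟩ := QuotientGroup.mk_surjective x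
    obtain ⟨u, hu, c, hcM, rfl⟩ := exists_mul_of_index M hb P y
    obtain ⟨k, hk⟩ := Subgroup.mem_zpowers_iff.1 (hg ⟨u, hu⟩)
    refine ⟨k, ?_⟩
    have hk' : (g : K) ^ k = u := congrArg Subtype.val hk
    have : ((g' ^ k : f.range) : Equiv.Perm (K ⧸ M)) = f u := by
      rw [Subgroup.coe_zpow, hg', ← map_zpow, hk']
    show ((g' ^ k : f.range) : Equiv.Perm (K ⧸ M)) ((1 : K) : K ⧸ M) = _
    rw [this]
    show u • ((1 : K) : K ⧸ M) = _
    rw [MulAction.Quotient.smul_coe, smul_eq_mul, mul_one, QuotientGroup.eq, inv_mul_cancel_left]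
    exact hcM
  have hord : orderOf g' = p ^ b := by
    rw [← hb, ← Nat.card_zpowers]
    show Nat.card (Subgroup.zpowers g') = Nat.card (K ⧸ M)
    refine Nat.card_congr (Equiv.ofBijective (fun s : Subgroup.zpowers g' => (s : f.range) • ((1 : K) : K ⧸ M))
      ⟨fun s t h => ?_, fun x => ?_⟩)
    · refine Subtype.ext (Subtype.ext (Equiv.ext fun x => ?_))
      obtain ⟨k, rfl⟩ := htrg x
      obtain ⟨i, hi⟩ := Subgroup.mem_zpowers_iff.1 s.2
      obtain ⟨j, hj⟩ := Subgroup.mem_zpowers_iff.1 t.2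
      have h' : (s : f.range) • ((1 : K) : K ⧸ M) = (t : f.range) • ((1 : K) : K ⧸ M) := h
      show (s : f.range) • ((g' ^ k) • ((1 : K) : K ⧸ M)) = (t : f.range) • ((g' ^ k) • ((1 : K) : K ⧸ M))
      rw [← hi, ← hj, ← mul_smul, ← mul_smul, (Commute.zpow_zpow_self g' i k).eq,
        (Commute.zpow_zpow_self g' j k).eq, mul_smul, mul_smul, hi, hj, h']
    · obtain ⟨k, hk⟩ := htrg x
      exact ⟨⟨g' ^ k, k, rfl⟩, hk⟩
  refine (S3972.result p b hp.out hb2 (by rw [← Nat.card_eq_fintype_card]; exact hb) f.range htr h2 g' hord).1 ?_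
  haveI : Nontrivial (K ⧸ M) := by
    rw [← Finite.one_lt_card_iff_nontrivial]
    show 1 < M.index
    rw [hb]
    exact Nat.one_lt_pow hb0 hp.out.one_lt
  have hpre : MulAction.IsPreprimitive K (K ⧸ M) := by
    rw [← MulAction.isCoatom_stabilizer_iff_preprimitive K ((1 : K) : K ⧸ M),
      MulAction.stabilizer_quotient]
    exact hM
  exact MulAction.IsPreprimitive.of_surjective
    (f := ({ toFun := id, map_smul' := fun _ _ => rfl } : (K ⧸ M) →ₑ[f.rangeRestrict] (K ⧸ M)))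
    Function.surjective_id

set_option maxHeartbeats 1000000 in
include hp hq hc hWq hW1 hinj horb hperf hK1 hKq hpq irr in
/-- The case `p = 2`. -/
theorem two_false (hp2 : p = 2) : False := by
  classical
  subst hp2
  have hq2 : q ≠ 2 := Ne.symm hpq
  have hqodd : Odd q := hq.out.odd_of_ne_two hq2
  obtain ⟨P⟩ : Nonempty (Sylow 2 K) := inferInstance
  have hP := P.isPGroup'
  have hP1 : (P : Subgroup K) ≠ ⊥ := by
    intro h
    obtain ⟨w, hw⟩ := exists_ne (1 : W)
    obtain ⟨a, ha⟩ := horb w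
    refine hw (fixed_all φ hinj hperf hK1 irr fun g => ?_)
    obtain ⟨u, hu, c, hcst, rfl⟩ := exists_mul_of_index (stab φ w) ha P g
    rw [h, Subgroup.mem_bot] at hu
    rw [hu, one_mul]; exact hcst
  have hncy : ¬ IsCyclic (P : Subgroup K) := by
    intro h
    obtain ⟨P', N, hN, hc'⟩ := Fusion.DihedralFours.hnpc_two_cyclic P h
    haveI := hN
    haveI : IsCyclic (P' : Subgroup K) :=
      isCyclic_of_surjective (P.equiv P') (P.equiv P').surjective
    haveI : IsCyclic (K ⧸ N) :=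
      isCyclic_of_surjective hc'.symm.QuotientMulEquiv.symm hc'.symm.QuotientMulEquiv.symm.surjective
    have htop := eq_top_of_cyclic_quotient hperf N inferInstance
    have h1 : Nat.card (P' : Subgroup K) = 1 := by
      rw [← hc'.symm.index_eq_card, htop, Subgroup.index_top]
    exact hP1 (Subgroup.card_eq_one.1 (by rw [← h1, Nat.card_congr (P.equiv P').toEquiv]))
  obtain ⟨-, A, hA, hAi, hZA⟩ := (sylow_shape φ hc hW1 hinj horb hperf irr (Or.inl rfl) P).resolve_left hncy
  haveI : Nontrivial ↥(P : Subgroup K) := (Subgroup.nontrivial_iff_ne_bot _).2 hP1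
  haveI := hP.center_nontrivial
  obtain ⟨k, hk0, hk⟩ := (IsPGroup.nontrivial_iff_card (hP.to_subgroup (Subgroup.center _))).1 inferInstance
  obtain ⟨z₀, hz₀⟩ := exists_prime_orderOf_dvd_card' (G := Subgroup.center ↥(P : Subgroup K)) 2
    (hk ▸ dvd_pow_self 2 hk0.ne')
  set z : K := ((z₀ : ↥(P : Subgroup K)) : K) with hz
  have hzo : orderOf z = 2 := by rw [hz, Subgroup.orderOf_coe, Subgroup.orderOf_coe, hz₀]
  have hz1 : z ≠ 1 := fun h => by rw [h, orderOf_one] at hzo; norm_num at hzo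
  have hzz : φ z * φ z = 1 := by rw [← map_mul, ← pow_two, ← hzo, pow_orderOf_eq_one, map_one]
  have hzfix : ∀ w, φ z w = w → w = 1 := by
    intro w hw
    refine fix_all φ hinj horb irr P (Subgroup.zpowers z) ?_ (by simpa using hz1) fun a ha =>
      (mem_stab φ).1 (Subgroup.zpowers_le.2 ((mem_stab φ).2 hw) ha)
    rintro u hu _ ⟨i, rfl⟩
    refine ⟨i, ?_⟩
    have hcz : Commute u z := congrArg Subtype.val (Subgroup.mem_center_iff.1 z₀.2 ⟨u, hu⟩)
    show z ^ i = u⁻¹ * z ^ i * u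
    rw [mul_assoc, ← (hcz.zpow_right i).eq, inv_mul_cancel_left]
  have hzinv : ∀ w, φ z w = w⁻¹ := fun w =>
    eq_inv_of_mul_eq_one_left (hzfix (φ z w * w) (by
      rw [map_mul, ← MulAut.mul_apply, hzz, MulAut.one_apply, hc]))
  have hzc : ∀ g, g * z = z * g := fun g => hinj (MulEquiv.ext fun w => by
    rw [map_mul, map_mul, MulAut.mul_apply, MulAut.mul_apply, hzinv, hzinv, map_inv])
  -- `z` is the only involution of `P`
  have huniq : ∀ u ∈ (P : Subgroup K), orderOf u = 2 → u = z := by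
    intro u hu hu2
    have hinA : ∀ x : ↥(P : Subgroup K), x ∈ A → orderOf x = 2 → (x : K) = z := by
      intro x hx hx2
      have hzA : (z₀ : ↥(P : Subgroup K)) ∈ A := hZA z₀.2
      haveI := hA
      have hx' : orderOf (⟨x, hx⟩ : A) = 2 := by rw [← Subgroup.orderOf_coe]; exact hx2
      have hz' : orderOf (⟨_, hzA⟩ : A) = 2 := by
        rw [← Subgroup.orderOf_coe, ← Subgroup.orderOf_coe]; exact hzo
      haveI := Fintype.ofFinite A
      by_contra hne
      have hle := IsCyclic.card_pow_eq_one_le (α := A) two_pos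
      have hsub : ({1, ⟨x, hx⟩, ⟨_, hzA⟩} : Finset A) ⊆ Finset.univ.filter (fun a : A => a ^ 2 = 1) := by
        intro a ha
        rw [Finset.mem_filter]
        refine ⟨Finset.mem_univ a, ?_⟩
        simp only [Finset.mem_insert, Finset.mem_singleton] at ha
        rcases ha with rfl | rfl | rfl
        · exact one_pow 2
        · have h9 := pow_orderOf_eq_one (⟨x, hx⟩ : A)
          rwa [hx'] at h9
        · have h9 := pow_orderOf_eq_one (⟨_, hzA⟩ : A)
          rwa [hz'] at h9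
      have h3 := (Finset.card_le_card hsub).trans hle
      have n1 : (1 : A) ≠ ⟨x, hx⟩ := fun h => by rw [← h, orderOf_one] at hx'; norm_num at hx'
      have n2 : (1 : A) ≠ ⟨_, hzA⟩ := fun h => by rw [← h, orderOf_one] at hz'; norm_num at hz'
      have n3 : (⟨x, hx⟩ : A) ≠ ⟨_, hzA⟩ := fun h => hne (by
        rw [hz, show x = (z₀ : ↥(P : Subgroup K)) from congrArg Subtype.val h])
      rw [Finset.card_insert_of_notMem (by simp [n1, n2]), Finset.card_insert_of_notMem (by simp [n3]),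
        Finset.card_singleton] at h3
      omega
    by_cases huA : (⟨u, hu⟩ : ↥(P : Subgroup K)) ∈ A
    · exact hinA ⟨u, hu⟩ huA (by rw [← Subgroup.orderOf_coe]; exact hu2)
    exfalso
    have hrel : (A.map (P : Subgroup K).subtype).relIndex (P : Subgroup K) = 2 := by
      show ((A.map (P : Subgroup K).subtype).subgroupOf (P : Subgroup K)).index = 2
      rw [Subgroup.subgroupOf, Subgroup.comap_map_eq_self_of_injective (P : Subgroup K).subtype_injective, hAi]
    rcases S0111.result P (A.map (P : Subgroup K).subtype) (Subgroup.map_subtype_le A) hrel u hu2 hu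
      (fun h => huA (by obtain ⟨x, hx, rfl⟩ := h; exact hx)) with ⟨N, hN, hNi, huN⟩ | ⟨g, hg⟩
    · haveI := hN
      haveI : IsCyclic (K ⧸ N) := isCyclic_of_prime_card (p := 2) hNi
      exact huN (eq_top_of_cyclic_quotient hperf N inferInstance ▸ Subgroup.mem_top u)
    · obtain ⟨x, hx, he⟩ := hg
      have hxz : (x : K) = z := hinA x hx (by
        rw [← Subgroup.orderOf_coe, show (x : K) = g * u * g⁻¹ from he]
        rw [show g * u * g⁻¹ = MulAut.conj g u from rfl, MulEquiv.orderOf_eq, hu2])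
      have : u = z := by
        calc u = g⁻¹ * (g * u * g⁻¹) * g := by group
          _ = g⁻¹ * z * g := by rw [← hxz]; rw [show (x : K) = g * u * g⁻¹ from he]
          _ = z := by rw [mul_assoc, ← hzc, inv_mul_cancel_left]
      exact huA (this ▸ (show (⟨z, (z₀ : ↥(P : Subgroup K)).2⟩ : ↥(P : Subgroup K)) ∈ A from hZA z₀.2))
  have hsr : ∀ π ∈ (P : Subgroup K), π ≠ 1 → ∀ w, φ π w = w → w = 1 := by
    intro π hπ hπ1 w hw
    refine hzfix w ((mem_stab φ).1 (?_ : z ∈ stab φ w))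
    obtain ⟨i, hi⟩ := IsPGroup.iff_orderOf.1 hP ⟨π, hπ⟩
    rw [← Subgroup.orderOf_coe] at hi
    rcases i with _ | i
    · rw [pow_zero, orderOf_eq_one_iff] at hi; exact absurd hi hπ1
    rw [← huniq (π ^ (2 ^ i)) (pow_mem hπ _) (by
      rw [orderOf_pow_of_dvd (pow_ne_zero _ two_ne_zero) (hi ▸ pow_dvd_pow 2 (Nat.le_succ i)), hi, pow_succ,
        Nat.mul_div_cancel_left _ (pow_pos two_pos i)])]
    exact pow_mem ((mem_stab φ).2 hw) _
  obtain ⟨n, hn⟩ := IsPGroup.iff_card.1 hP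
  set N := 2 ^ n with hN
  -- elements of odd prime order
  have hfixed : ∀ r : ℕ, r.Prime → r ≠ 2 → r ∣ Nat.card K →
      ∃ h : K, orderOf h = r ∧ ∃ C : Subgroup W, (∀ w, w ∈ C ↔ φ h w = w) ∧ C ≠ ⊥ ∧ C ≠ ⊤ ∧ C.index ≠ q := by
    intro r hr hr2 hrK
    obtain ⟨w, hw⟩ := exists_ne (1 : W)
    obtain ⟨a, ha⟩ := horb w
    rw [← (stab φ w).card_mul_index, ha] at hrK
    have hrS : r ∣ Nat.card (stab φ w) := (hr.dvd_mul.1 hrK).resolve_right fun h =>
      hr2 ((Nat.prime_dvd_prime_iff_eq hr Nat.prime_two).1 (hr.dvd_of_dvd_pow h))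
    haveI := Fact.mk hr
    obtain ⟨h, hh⟩ := exists_prime_orderOf_dvd_card' r hrS
    rw [← Subgroup.orderOf_coe] at hh
    let C : Subgroup W :=
      { carrier := {v | φ (h : K) v = v}
        one_mem' := map_one _
        mul_mem' := fun {x y} (hx : _ = x) (hy : _ = y) => by
          show φ (h : K) (x * y) = x * y
          rw [map_mul, hx, hy]
        inv_mem' := fun {x} (hx : _ = x) => by
          show φ (h : K) x⁻¹ = x⁻¹
          rw [map_inv, hx] }
    refine ⟨h, hh, C, fun v => Iff.rfl, fun e => hw (Subgroup.mem_bot.1 (e ▸ (show w ∈ C from h.2))), fun e => ?_,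
      hyper φ hc (fun v => ⟨1, by rw [pow_one]; exact hWq v⟩) hKq horb hr hr2 hh C fun v => Iff.rfl⟩
    have h1 : (h : K) = 1 := hinj (MulEquiv.ext fun v => by
      rw [map_one, MulAut.one_apply]; exact (show v ∈ C from e ▸ Subgroup.mem_top v))
    rw [h1, orderOf_one] at hh
    exact hr.one_lt.ne hh
  obtain ⟨r, hr, hr2, hrK⟩ : ∃ r : ℕ, r.Prime ∧ r ≠ 2 ∧ r ∣ Nat.card K := by
    by_contra hno
    push Not at hno
    have hsol : Group.IsSolvable K := Char.isSolvable_of_two_primes Nat.prime_two Nat.prime_two _ rfl fun r hr hd =>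
      Or.inl (by by_contra h; exact hno r hr h hd)
    exact absurd hperf (Group.IsSolvable.commutator_lt_top_of_nontrivial K).ne
  obtain ⟨D, hD⟩ := (IsPGroup.iff_card (p := q) (G := W)).1 fun v => ⟨1, by rw [pow_one]; exact hWq v⟩
  have hq3 : 3 ≤ q := by have := hq.out.two_le; omega
  -- covering
  obtain ⟨h, hh, -⟩ := hfixed r hr hr2 hrK
  let E : ↥(P : Subgroup K) → Subgroup W := fun π =>
    { carrier := {v | φ h v = φ (π : K) v}
      one_mem' := by simp
      mul_mem' := fun {x y} (hx : _ = _) (hy : _ = _) => by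
        show φ h (x * y) = φ (π : K) (x * y)
        rw [map_mul, map_mul, hx, hy]
      inv_mem' := fun {x} (hx : _ = _) => by
        show φ h x⁻¹ = φ (π : K) x⁻¹
        rw [map_inv, map_inv, hx] }
  have hdisj : ∀ π π' : ↥(P : Subgroup K), π ≠ π' → ∀ v, v ∈ E π → v ∈ E π' → v = 1 := by
    intro π π' hne v (h1 : _ = _) (h2 : _ = _)
    refine hsr ((π' : K)⁻¹ * π) (mul_mem (inv_mem π'.2) π.2)
      (fun e => hne (Subtype.ext (inv_mul_eq_one.1 e).symm)) v ?_
    rw [map_mul, MulAut.mul_apply, ← h1, h2, ← MulAut.mul_apply, ← map_mul, inv_mul_cancel, map_one, MulAut.one_apply]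
  have hprop : ∀ π, E π ≠ ⊤ := by
    intro π e
    have hπ : h = (π : K) := hinj (MulEquiv.ext fun v => (show v ∈ E π from e ▸ Subgroup.mem_top v))
    obtain ⟨i, hi⟩ := IsPGroup.iff_orderOf.1 hP π
    rw [← Subgroup.orderOf_coe, ← hπ, hh] at hi
    exact hr2 ((Nat.prime_dvd_prime_iff_eq hr Nat.prime_two).1 (hr.dvd_of_dvd_pow (m := 2) (n := i) (hi ▸ dvd_rfl)))
  haveI := Fintype.ofFinite W
  haveI := Fintype.ofFinite ↥(P : Subgroup K)
  have hsum : Nat.card W - 1 ≤ ∑ π : ↥(P : Subgroup K), (Nat.card (E π) - 1) := by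
    have hsub : (Finset.univ.erase (1 : W)) ⊆
        Finset.univ.biUnion fun π : ↥(P : Subgroup K) => (Finset.univ.filter fun v => v ∈ E π).erase 1 := by
      intro v hv
      rw [Finset.mem_erase] at hv
      obtain ⟨a, ha⟩ := horb v
      obtain ⟨u, hu, c, hcst, he⟩ := exists_mul_of_index (stab φ v) ha P h
      refine Finset.mem_biUnion.2 ⟨⟨u, hu⟩, Finset.mem_univ _, Finset.mem_erase.2 ⟨hv.1,
        Finset.mem_filter.2 ⟨Finset.mem_univ v, ?_⟩⟩⟩
      show φ h v = φ u v
      rw [he, map_mul, MulAut.mul_apply, (mem_stab φ).1 hcst]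
    have h1 := (Finset.card_le_card hsub).trans Finset.card_biUnion_le
    rw [Finset.card_erase_of_mem (Finset.mem_univ _), Finset.card_univ, ← Nat.card_eq_fintype_card] at h1
    refine h1.trans_eq (Finset.sum_congr rfl fun π _ => ?_)
    rw [Finset.card_erase_of_mem (Finset.mem_filter.2 ⟨Finset.mem_univ _, one_mem (E π)⟩),
      ← Fintype.card_subtype, ← Nat.card_eq_fintype_card]
  obtain ⟨π₀, -, hmax⟩ := Finset.exists_max_image (Finset.univ : Finset ↥(P : Subgroup K))
    (fun π => Nat.card (E π)) ⟨1, Finset.mem_univ 1⟩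
  set m := Nat.card (E π₀) with hm
  have hm0 : 0 < m := Nat.card_pos
  set X := (E π₀).index with hX
  have hmX : m * X = Nat.card W := Subgroup.card_mul_index _
  have hX1 : 2 ≤ X := by
    have h1 : X ≠ 1 := fun e => hprop π₀ (Subgroup.index_eq_one.1 e)
    have h2 : X ≠ 0 := Subgroup.index_ne_zero_of_finite
    omega
  have hother : ∀ π, π ≠ π₀ → Nat.card (E π) ≤ X := by
    intro π hne
    refine Nat.le_of_mul_le_mul_left ?_ hm0
    rw [hmX, ← Nat.card_prod]
    refine Nat.card_le_card_of_injective (fun x : E π₀ × E π => (x.1 : W) * x.2) fun x y e => ?_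
    have h1 : (y.1 : W)⁻¹ * x.1 = y.2 * (x.2 : W)⁻¹ := by
      rw [eq_mul_inv_iff_mul_eq, mul_assoc, inv_mul_eq_iff_eq_mul]; exact e
    have h2 := hdisj π₀ π hne.symm _ (mul_mem (inv_mem y.1.2) x.1.2) (h1 ▸ mul_mem y.2.2 (inv_mem x.2.2))
    exact Prod.ext (Subtype.ext (inv_mul_eq_one.1 h2).symm)
      (Subtype.ext (mul_inv_eq_one.1 (h1.symm.trans h2)).symm)
  have hcardP : Fintype.card ↥(P : Subgroup K) = N := by rw [← Nat.card_eq_fintype_card, hn]
  have hlt : Nat.card W < N ^ 2 := by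
    by_contra hge
    push Not at hge
    rw [← hmX] at hge hsum
    have hN0 : 0 < N := pow_pos two_pos n
    rcases Nat.lt_or_ge m X with hmX' | hmX'
    · have h1 : ∑ π : ↥(P : Subgroup K), (Nat.card (E π) - 1) ≤ N * (m - 1) := by
        refine (Finset.sum_le_card_nsmul _ _ (m - 1) fun π _ => Nat.sub_le_sub_right (hmax π (Finset.mem_univ π)) 1).trans_eq ?_
        rw [Finset.card_univ, hcardP, smul_eq_mul]
      have h2 : N < X := by nlinarith
      obtain ⟨m', hm'⟩ : ∃ m', m = m' + 1 := ⟨m - 1, by omega⟩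
      rw [hm'] at h1 hsum hmX'
      rw [Nat.add_sub_cancel] at h1
      have h3 := hsum.trans h1
      have h4 : (m' + 1) * X ≤ N * m' + 1 := by omega
      nlinarith
    · have h1 : ∑ π : ↥(P : Subgroup K), (Nat.card (E π) - 1) ≤ (m - 1) + (N - 1) * (X - 1) := by
        rw [← Finset.add_sum_erase _ _ (Finset.mem_univ π₀)]
        refine Nat.add_le_add_left ((Finset.sum_le_card_nsmul _ _ (X - 1) fun π hπ =>
          Nat.sub_le_sub_right (hother π (Finset.mem_erase.1 hπ).1) 1).trans_eq ?_) _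
        rw [Finset.card_erase_of_mem (Finset.mem_univ _), Finset.card_univ, hcardP, smul_eq_mul]
      obtain ⟨X', hX'⟩ : ∃ X', X = X' + 1 := ⟨X - 1, by omega⟩
      obtain ⟨N', hN'⟩ : ∃ N', N = N' + 1 := ⟨N - 1, by omega⟩
      rw [hX'] at h1 hsum hge hmX'
      rw [hN'] at h1 hge
      rw [Nat.add_sub_cancel, Nat.add_sub_cancel] at h1
      have h3 := hsum.trans h1
      have h4 : m * X' ≤ N' * X' := by
        rw [mul_add, mul_one] at h3
        omega
      have h5 := Nat.le_of_mul_le_mul_right h4 (by omega)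
      nlinarith [Nat.mul_le_mul_left m hmX', Nat.mul_le_mul h5 h5]
  -- semiregularity
  have hdvd : N ∣ Nat.card W - 1 := by
    letI : MulAction ↥(P : Subgroup K) W := MulAction.compHom W (φ.comp (P : Subgroup K).subtype)
    have hsum' := MulAction.sum_card_fixedBy_eq_card_orbits_mul_card_group ↥(P : Subgroup K) W
    rw [← Finset.add_sum_erase _ _ (Finset.mem_univ (1 : ↥(P : Subgroup K))), hcardP] at hsum'
    have h1 : Fintype.card ↥(MulAction.fixedBy W (1 : ↥(P : Subgroup K))) = Nat.card W := by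
      rw [← Nat.card_eq_fintype_card, MulAction.fixedBy_one_eq_univ]; exact Nat.card_congr (Equiv.Set.univ W)
    have h2 : ∀ π ∈ (Finset.univ : Finset ↥(P : Subgroup K)).erase 1,
        Fintype.card ↥(MulAction.fixedBy W π) = 1 := by
      intro π hπ
      rw [Fintype.card_eq_one_iff]
      refine ⟨⟨1, show φ (π : K) 1 = 1 from map_one _⟩, fun v => Subtype.ext ?_⟩
      exact hsr π π.2 (fun e => (Finset.mem_erase.1 hπ).1 (Subtype.ext e)) v v.2
    rw [Finset.sum_congr rfl h2, h1, Finset.sum_const, Finset.card_erase_of_mem (Finset.mem_univ _),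
      Finset.card_univ, hcardP, smul_eq_mul, mul_one] at hsum'
    have : 0 < Nat.card W := Nat.card_pos
    have : 0 < N := pow_pos two_pos n
    have hre : Nat.card W + (N - 1) = Nat.card W - 1 + N := by omega
    exact (Nat.dvd_add_left (dvd_refl N)).1 (Dvd.intro_left _ (hsum'.symm.trans hre))
  rw [hD] at hlt hdvd
  obtain ⟨h₀, hh₀, C, hC, hCb, hCt, hCi⟩ := hfixed r hr hr2 hrK
  have hCpow : ∀ C : Subgroup W, C ≠ ⊥ → C ≠ ⊤ → C.index ≠ q → ∃ j, Nat.card C = q ^ j ∧ 1 ≤ j ∧ j + 2 ≤ D := by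
    intro C hb ht hi
    obtain ⟨j, hjD, hj⟩ := (Nat.dvd_prime_pow hq.out).1 (hD ▸ C.card_subgroup_dvd_card)
    have hidx : C.index = q ^ (D - j) := by
      refine Nat.eq_of_mul_eq_mul_left (pow_pos hq.out.pos j) ?_
      rw [← pow_add, Nat.add_sub_cancel' hjD, ← hD, ← hj, C.card_mul_index]
    refine ⟨j, hj, Nat.one_le_iff_ne_zero.2 fun e => hb (Subgroup.card_eq_one.1 (by rw [hj, e, pow_zero])), ?_⟩
    by_contra hlt'
    have : D - j = 0 ∨ D - j = 1 := by omega
    rcases this with e | e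
    · exact ht (Subgroup.index_eq_one.1 (by rw [hidx, e, pow_zero]))
    · exact hi (by rw [hidx, e, pow_one])
  obtain ⟨j, -, hj1, hjD⟩ := hCpow C hCb hCt hCi
  rcases arith hqodd hq3 hdvd hlt with hD2 | ⟨rfl, rfl⟩
  · omega
  have hsol : Group.IsSolvable K := by
    refine Char.isSolvable_of_two_primes Nat.prime_two (by norm_num : Nat.Prime 13) _ rfl fun s hs hsd => ?_
    by_cases hs2 : s = 2
    · exact Or.inl hs2
    right
    obtain ⟨k, hk, C, hC, hCb, hCt, hCi⟩ := hfixed s hs hs2 hsd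
    obtain ⟨j, hj, hj1, hjD⟩ := hCpow C hCb hCt hCi
    haveI := Fact.mk hs
    letI : MulAction ↥(Subgroup.zpowers k) W := MulAction.compHom W (φ.comp (Subgroup.zpowers k).subtype)
    have hmod := (IsPGroup.of_card (p := s) (n := 1) (G := ↥(Subgroup.zpowers k))
      (by rw [Nat.card_zpowers, hk, pow_one])).card_modEq_card_fixedPoints W
    have hfp : Nat.card ↥(MulAction.fixedPoints ↥(Subgroup.zpowers k) W) = Nat.card C := by
      refine Nat.card_congr (Equiv.setCongr (Set.ext fun v => ⟨fun hv => (hC v).2 (hv ⟨k, Subgroup.mem_zpowers k⟩),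
        fun hv g => ?_⟩))
      exact (mem_stab φ).1 (Subgroup.zpowers_le.2 ((mem_stab φ).2 ((hC v).1 hv)) g.2)
    rw [hfp, hj, hD] at hmod
    have hs3 : s ≠ 3 := fun e => by
      rw [e] at hsd
      exact absurd (Nat.eq_one_of_dvd_coprimes hKq hsd dvd_rfl) (by norm_num)
    have hj' : j = 1 ∨ j = 2 := by omega
    rcases hj' with rfl | rfl
    · have h78 : s ∣ 2 * (3 * 13) := (Nat.modEq_iff_dvd' (by norm_num : 3 ^ 1 ≤ 3 ^ 4)).1 hmod.symm
      rcases hs.dvd_mul.1 h78 with e | e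
      · exact absurd ((Nat.prime_dvd_prime_iff_eq hs Nat.prime_two).1 e) hs2
      rcases hs.dvd_mul.1 e with e | e
      · exact absurd ((Nat.prime_dvd_prime_iff_eq hs Nat.prime_three).1 e) hs3
      · exact (Nat.prime_dvd_prime_iff_eq hs (by norm_num)).1 e
    · have h72 : s ∣ 2 ^ 3 * 3 ^ 2 := (Nat.modEq_iff_dvd' (by norm_num : 3 ^ 2 ≤ 3 ^ 4)).1 hmod.symm
      rcases hs.dvd_mul.1 h72 with e | e
      · exact absurd ((Nat.prime_dvd_prime_iff_eq hs Nat.prime_two).1 (hs.dvd_of_dvd_pow e)) hs2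
      · exact absurd ((Nat.prime_dvd_prime_iff_eq hs Nat.prime_three).1 (hs.dvd_of_dvd_pow e)) hs3
  exact absurd hperf (Group.IsSolvable.commutator_lt_top_of_nontrivial K).ne

end Cfsg.Agent.Solv.BaerQ
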