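import Cfsg.Agent.Lib.Solv.BaerQ.Orbit
import Cfsg.Agent.Lib.Fusion.RankTwoExponent

/-!
The irreducible case: a perfect group cannot have all orbits of `p`-power length.
-/

set_option autoImplicit false
set_option linter.style.haveILetI false

namespace Cfsg.Agent.Solv.BaerQ

universe u

variable {K : Type u} [Group K] [Finite K]

/-- A perfect group is not transitive with a solvable image or with a doubly transitive image of odd order. -/
theorem perm_false (hperf : commutator K = ⊤) {p : ℕ} (hodd : p = 2 ∨ Odd (Nat.card K)) (hp : p.Prime) (M : Subgroup K)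
    (hM : M ≠ ⊤)
    (h : Group.IsSolvable (MulAction.toPermHom K (K ⧸ M)).range ∨
      (MulAction.IsMultiplyPretransitive (MulAction.toPermHom K (K ⧸ M)).range (K ⧸ M) 2 ∧ p ≠ 2)) : False := by
  set f : K →* Equiv.Perm (K ⧸ M) := MulAction.toPermHom K (K ⧸ M) with hf
  rcases h with h | ⟨h, hp2⟩
  · have hp' : commutator f.range = ⊤ := by
      rw [commutator_def, ← Subgroup.map_top_of_surjective f.rangeRestrict f.rangeRestrict_surjective,
        ← Subgroup.map_commutator, ← commutator_def, hperf]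
    have hall : ∀ n, derivedSeries f.range n = ⊤ := fun n => by
      induction n with
      | zero => rfl
      | succ n ih => rw [derivedSeries_succ, ih, ← commutator_def, hp']
    obtain ⟨n, hn⟩ := (Group.isSolvable_def _).1 h
    rw [hall n] at hn
    refine hM ((Subgroup.eq_top_iff' M).2 fun g => ?_)
    have h1' : (⟨f g, g, rfl⟩ : f.range) = 1 := Subgroup.mem_bot.1 (hn ▸ Subgroup.mem_top _)
    have h1 : f g = (1 : Equiv.Perm (K ⧸ M)) := congrArg Subtype.val h1'
    have h2 : g • ((1 : K) : K ⧸ M) = ((1 : K) : K ⧸ M) := DFunLike.congr_fun h1 ((1 : K) : K ⧸ M)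
    rw [MulAction.Quotient.smul_coe, smul_eq_mul, mul_one, QuotientGroup.eq] at h2
    rw [mul_one] at h2
    exact inv_inv g ▸ inv_mem (by simpa using h2)
  · obtain ⟨g, hg⟩ : ∃ g, g ∉ M := by
      by_contra hall; push Not at hall; exact hM ((Subgroup.eq_top_iff' M).2 hall)
    have hne : ((g : K) : K ⧸ M) ≠ ((1 : K) : K ⧸ M) := fun e => hg (by
      rw [QuotientGroup.eq, mul_one] at e; exact inv_inv g ▸ inv_mem e)
    obtain ⟨σ, h1, h2⟩ := MulAction.is_two_pretransitive_iff.1 h hne hne.symm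
    have h3 : (σ ^ 2) • ((g : K) : K ⧸ M) = ((g : K) : K ⧸ M) := by rw [pow_two, mul_smul, h1, h2]
    have hev : 2 ∣ orderOf σ := by
      by_contra hnd
      obtain ⟨k, hk⟩ := Nat.odd_iff.2 (Nat.two_dvd_ne_zero.1 hnd)
      have h4 : ∀ j : ℕ, (σ ^ (2 * j)) • ((g : K) : K ⧸ M) = ((g : K) : K ⧸ M) := by
        intro j
        induction j with
        | zero => simp
        | succ j ih => rw [mul_add, pow_add, mul_smul, mul_one, h3, ih]
      have h5 := h4 k
      have h6 : σ ^ (2 * k) = σ⁻¹ := eq_inv_of_mul_eq_one_left (by rw [← pow_succ, ← hk, pow_orderOf_eq_one])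
      rw [h6, inv_smul_eq_iff, h1] at h5
      exact hne h5
    have h2K : 2 ∣ Nat.card K := (hev.trans (orderOf_dvd_natCard σ)).trans (Subgroup.card_range_dvd f)
    rcases hodd with e | e
    · exact hp2 e
    · exact Nat.not_even_iff_odd.2 e (even_iff_two_dvd.2 h2K)

variable {W : Type u} [Group W] [Finite W] (φ : K →* MulAut W) {p q : ℕ} [hp : Fact p.Prime] [hq : Fact q.Prime]
  (hc : ∀ x y : W, x * y = y * x) (hWq : ∀ w : W, w ^ q = 1) (hW1 : Nontrivial W)
  (hinj : Function.Injective φ) (horb : POrb φ p) (hperf : commutator K = ⊤) (hK1 : Nontrivial K)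
  (hKq : (Nat.card K).Coprime q) (hpq : p ≠ q)
  (irr : ∀ U : Subgroup W, (∀ g : K, ∀ w ∈ U, φ g w ∈ U) → U = ⊥ ∨ U = ⊤)

omit [Finite W] hp hq in
include hinj hperf hK1 irr in
theorem fixed_all {w : W} (hw : ∀ g, φ g w = w) : w = 1 := by
  let U : Subgroup W :=
    { carrier := {w | ∀ g, φ g w = w}
      one_mem' := fun g => map_one _
      mul_mem' := fun {a b} ha hb g => by rw [map_mul, ha g, hb g]
      inv_mem' := fun {a} ha g => by rw [map_inv, ha g] }
  rcases irr U (fun g w hw h => by rw [hw g]; exact hw h) with h | h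
  · exact Subgroup.mem_bot.1 (h ▸ (show w ∈ U from hw))
  · exfalso
    obtain ⟨g, hg⟩ := exists_ne (1 : K)
    exact hg (hinj (MulEquiv.ext fun x => by
      rw [map_one, MulAut.one_apply]
      exact (show x ∈ U from h ▸ Subgroup.mem_top x) g))

include hp hinj horb irr in
/-- A nontrivial subgroup normalised by a Sylow subgroup fixes only `1`. -/
theorem fix_all (P : Sylow p K) (A : Subgroup K) (hPA : ∀ u ∈ (P : Subgroup K), ∀ a ∈ A, u⁻¹ * a * u ∈ A)
    (hA : A ≠ ⊥) {w : W} (hw : ∀ a ∈ A, φ a w = w) : w = 1 := by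
  let U : Subgroup W :=
    { carrier := {w | ∀ a ∈ A, φ a w = w}
      one_mem' := fun a _ => map_one _
      mul_mem' := fun {x y} hx hy a ha => by rw [map_mul, hx a ha, hy a ha]
      inv_mem' := fun {x} hx a ha => by rw [map_inv, hx a ha] }
  have hinv : ∀ g : K, ∀ v ∈ U, φ g v ∈ U := by
    intro g w hw a ha
    obtain ⟨k, hk⟩ := horb w
    obtain ⟨u, hu, c, hcst, rfl⟩ := exists_mul_of_index (stab φ w) hk P g
    rw [map_mul, MulAut.mul_apply, (mem_stab φ).1 hcst]
    calc φ a (φ u w) = φ u (φ (u⁻¹ * a * u) w) := by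
          rw [← MulAut.mul_apply, ← map_mul, ← MulAut.mul_apply, ← map_mul]; group
      _ = φ u w := by rw [hw _ (hPA u hu a ha)]
  rcases irr U hinv with h | h
  · exact Subgroup.mem_bot.1 (h ▸ (show w ∈ U from hw))
  · exfalso
    refine hA ((Subgroup.eq_bot_iff_forall A).2 fun a ha => hinj (MulEquiv.ext fun x => ?_))
    rw [map_one, MulAut.one_apply]
    exact (show x ∈ U from h ▸ Subgroup.mem_top x) a ha

include hp hc hW1 hinj horb hperf irr in
/-- No noncyclic elementary abelian normal subgroup of order `p²` in a Sylow subgroup. -/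
theorem no_sq (hodd : p = 2 ∨ Odd (Nat.card K)) (P : Sylow p K) (E : Subgroup K) (hEP : E ≤ (P : Subgroup K))
    (hPE : ∀ u ∈ (P : Subgroup K), ∀ a ∈ E, u⁻¹ * a * u ∈ E) (hEc : ∀ a ∈ E, ∀ b ∈ E, a * b = b * a)
    (hEp : ∀ a ∈ E, a ^ p = 1) (hEcard : Nat.card E = p ^ 2) : False := by
  have hpp := hp.out
  obtain ⟨e, heE, he1, w0, hw0, hew⟩ : ∃ e ∈ E, e ≠ 1 ∧ ∃ w0 : W, w0 ≠ 1 ∧ φ e w0 = w0 := by
    by_contra hno
    push Not at hno
    have hcy := Lie.ZassenhausEvenTorus.isCyclic_of_comm_fpf (X := ↥E)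
      (fun x y => Subtype.ext (hEc x x.2 y y.2)) (φ.comp E.subtype) (fun g hg x hx => by
        by_contra hx1
        exact hno g g.2 (fun e => hg (Subtype.ext e)) x hx1 hx)
    obtain ⟨g, hg⟩ := hcy.exists_generator
    have h1 : orderOf g ∣ p := orderOf_dvd_of_pow_eq_one (Subtype.ext (hEp g g.2))
    rw [orderOf_eq_card_of_forall_mem_zpowers hg, hEcard] at h1
    have := Nat.le_of_dvd hpp.pos h1
    nlinarith [hpp.two_le]
  let F : W → Subgroup K := fun w => E ⊓ stab φ w
  -- two elements with distinct stabilizers in `E` have only trivial common fixed points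
  have hgen : ∀ H₁ H₂ : Subgroup K, H₁ ≤ E → H₂ ≤ E → H₁ ≠ ⊥ → ¬ H₂ ≤ H₁ → H₁ ⊔ H₂ = E := by
    intro H₁ H₂ h1 h2 hne hnle
    refine Subgroup.eq_of_le_of_card_ge (sup_le h1 h2) ?_
    obtain ⟨i, -, hi⟩ := (Nat.dvd_prime_pow hpp).1 (hEcard ▸ Subgroup.card_dvd_of_le (sup_le h1 h2))
    obtain ⟨j, -, hj⟩ := (Nat.dvd_prime_pow hpp).1 (hEcard ▸ Subgroup.card_dvd_of_le h1)
    have hlt : Nat.card H₁ < Nat.card ↥(H₁ ⊔ H₂) := Nat.lt_of_le_of_ne (Subgroup.card_le_of_le le_sup_left)
      fun e => hnle (le_sup_right.trans (Subgroup.eq_of_le_of_card_ge le_sup_left e.ge).ge)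
    have hj0 : j ≠ 0 := fun e => hne (Subgroup.card_eq_one.1 (by rw [hj, e, pow_zero]))
    rw [hi, hj] at hlt
    have := (Nat.pow_lt_pow_iff_right hpp.one_lt).1 hlt
    rw [hEcard, hi]
    exact Nat.pow_le_pow_right hpp.pos (by omega)
  set H := Subgroup.zpowers e with hH
  have hHE : H ≤ E := Subgroup.zpowers_le.2 heE
  have hH1 : H ≠ ⊥ := fun h => he1 (Subgroup.mem_bot.1 (h ▸ Subgroup.mem_zpowers e))
  let D : Subgroup W :=
    { carrier := {w | ∀ a ∈ H, φ a w = w}
      one_mem' := fun a _ => map_one _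
      mul_mem' := fun {x y} hx hy a ha => by rw [map_mul, hx a ha, hy a ha]
      inv_mem' := fun {x} hx a ha => by rw [map_inv, hx a ha] }
  have hw0D : w0 ∈ D := fun a ha => (mem_stab φ).1 ((Subgroup.zpowers_le.2 ((mem_stab φ).2 hew)) ha)
  have hall : ∀ w : W, (∀ a ∈ E, φ a w = w) → w = 1 := fun w hw =>
    fix_all φ hinj horb irr P E hPE (fun h => by
      rw [h, Subgroup.card_bot] at hEcard; nlinarith [hpp.two_le]) hw
  -- an element fixing a point of the block fixes the block
  have hblock : ∀ g : K, φ g w0 = w0 → ∀ w ∈ D, φ g w ∈ D := by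
    intro g hg w hw
    have key : ∀ v ∈ D, φ g v ≠ 1 → ∃ a ∈ E, a ≠ 1 ∧ φ a (φ g v) = φ g v := by
      intro v hv hv1
      obtain ⟨k, hk⟩ := horb v
      obtain ⟨u, hu, c, hcst, rfl⟩ := exists_mul_of_index (stab φ v) hk P g
      refine ⟨u * e * u⁻¹, by simpa using hPE u⁻¹ (inv_mem hu) e heE, fun h => he1 (conj_eq_one_iff.1 h), ?_⟩
      rw [map_mul φ u c, MulAut.mul_apply, (mem_stab φ).1 hcst, ← MulAut.mul_apply, ← map_mul,
        inv_mul_cancel_right, map_mul, MulAut.mul_apply, hv e (Subgroup.mem_zpowers e)]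
    intro h hh
    set x := φ g w with hx
    by_cases hx1 : x = 1
    · rw [hx1, map_one]
    by_cases hxy : x * w0 = 1
    · rw [eq_inv_of_mul_eq_one_left hxy]
      exact D.inv_mem hw0D h hh
    obtain ⟨a, ha, ha1, hax⟩ := key w hw hx1
    by_cases haH : a ∈ H
    · have hHa : H = Subgroup.zpowers a := (Subgroup.eq_of_le_of_card_ge (Subgroup.zpowers_le.2 haH) (by
        rw [hH, Nat.card_zpowers, Nat.card_zpowers, orderOf_eq_prime (hEp a ha) ha1,
          orderOf_eq_prime (hEp e heE) he1])).symm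
      have : h ∈ stab φ x := Subgroup.zpowers_le.2 ((mem_stab φ).2 hax) (hHa ▸ hh)
      exact this
    exfalso
    obtain ⟨b, hb, hb1, hbxy⟩ := key (w * w0) (mul_mem hw hw0D) (by rw [map_mul, hg]; exact hxy)
    rw [map_mul, hg] at hbxy
    have hE2 : H ⊔ Subgroup.zpowers a = E := hgen H _ hHE (Subgroup.zpowers_le.2 ha) hH1
      fun h => haH (h (Subgroup.mem_zpowers a))
    -- the defect of `x` under `b` is fixed by `E`
    set d := φ b x * x⁻¹ with hd
    have hd' : d = w0 * (φ b w0)⁻¹ := by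
      have h1 : φ b x * φ b w0 = x * w0 := by rw [← map_mul]; exact hbxy
      rw [hd, eq_mul_inv_iff_mul_eq, mul_assoc, hc x⁻¹, ← mul_assoc, h1, hc x w0, mul_inv_cancel_right]
    have hd1 : d = 1 := by
      refine hall d fun c hcE => ?_
      have hle : E ≤ stab φ d := by
        rw [← hE2]
        refine sup_le (fun c hc' => (mem_stab φ).2 ?_) (Subgroup.zpowers_le.2 ((mem_stab φ).2 ?_))
        · rw [hd', map_mul, map_inv, hw0D c hc', ← MulAut.mul_apply, ← map_mul, hEc c (hHE hc') b hb, map_mul,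
            MulAut.mul_apply, hw0D c hc']
        · rw [hd, map_mul, map_inv, hax, ← MulAut.mul_apply, ← map_mul, hEc a ha b hb, map_mul,
            MulAut.mul_apply, hax]
      exact (mem_stab φ).1 (hle hcE)
    have hbx : φ b x = x := mul_inv_eq_one.1 hd1
    have hby : φ b w0 = w0 := (mul_inv_eq_one.1 (hd'.symm.trans hd1)).symm
    have hbH : b ∈ H := by
      by_contra hbH
      have hE3 : H ⊔ Subgroup.zpowers b = E := hgen H _ hHE (Subgroup.zpowers_le.2 hb) hH1
        fun h => hbH (h (Subgroup.mem_zpowers b))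
      refine hw0 (hall w0 fun c hcE => ?_)
      have hle : E ≤ stab φ w0 := by
        rw [← hE3]; exact sup_le (fun c hc' => hw0D c hc') (Subgroup.zpowers_le.2 hby)
      exact hle hcE
    have hHb : H = Subgroup.zpowers b := (Subgroup.eq_of_le_of_card_ge (Subgroup.zpowers_le.2 hbH) (by
      rw [hH, Nat.card_zpowers, Nat.card_zpowers, orderOf_eq_prime (hEp b hb) hb1,
        orderOf_eq_prime (hEp e heE) he1])).symm
    refine hx1 (hall x fun c hcE => ?_)
    have hle : E ≤ stab φ x := by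
      rw [← hE2, hHb]; exact sup_le (Subgroup.zpowers_le.2 hbx) (Subgroup.zpowers_le.2 hax)
    exact hle hcE
  -- the stabilizer of the block
  let M : Subgroup K :=
    { carrier := {g | D.map (φ g).toMonoidHom = D}
      one_mem' := by
        show D.map (φ 1).toMonoidHom = D
        rw [map_one]; exact Subgroup.map_id D
      mul_mem' := fun {a b} (ha : _ = D) (hb : _ = D) => by
        show D.map (φ (a * b)).toMonoidHom = D
        conv_rhs => rw [← ha, ← hb, Subgroup.map_map]
        congr 1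
        exact MonoidHom.ext fun w => by simp
      inv_mem' := fun {a} (ha : _ = D) => by
        show D.map (φ a⁻¹).toMonoidHom = D
        conv_lhs => rw [← ha, Subgroup.map_map]
        convert Subgroup.map_id D
        exact MonoidHom.ext fun w => by simp }
  have hmemM : ∀ g, (∀ w ∈ D, φ g w ∈ D) → g ∈ M := fun g hg => by
    refine Subgroup.eq_of_le_of_card_ge ?_ (Subgroup.card_map_of_injective (φ g).injective).ge
    rintro _ ⟨w, hw, rfl⟩
    exact hg w hw
  have hMtop : M ≠ ⊤ := fun h => by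
    rcases irr D (fun g w hw => (h ▸ Subgroup.mem_top g : g ∈ M) ▸ ⟨w, hw, rfl⟩) with hD | hD
    · exact hw0 (Subgroup.mem_bot.1 (hD ▸ hw0D))
    · exact hH1 ((Subgroup.eq_bot_iff_forall H).2 fun a ha => hinj (MulEquiv.ext fun x => by
        rw [map_one, MulAut.one_apply]; exact (show x ∈ D from hD ▸ Subgroup.mem_top x) a ha))
  have hCP : (P : Subgroup K) ⊓ Subgroup.centralizer ({e} : Set K) ≤ (P : Subgroup K) ⊓ M := by
    refine le_inf inf_le_left fun u hu => hmemM u fun w hw a ha => ?_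
    have hue : a * u = u * a := by
      obtain ⟨k, rfl⟩ := ha
      exact ((show Commute u e from Subgroup.mem_centralizer_singleton_iff.1 (Subgroup.mem_inf.1 hu).2).zpow_right k).symm
    rw [← MulAut.mul_apply, ← map_mul, hue, map_mul, MulAut.mul_apply, hw a ha]
  have hsurj : ∀ g : K, ∃ u ∈ (P : Subgroup K), u⁻¹ * g ∈ M := fun g => by
    obtain ⟨k, hk⟩ := horb w0
    obtain ⟨u, hu, c, hcst, rfl⟩ := exists_mul_of_index (stab φ w0) hk P g
    exact ⟨u, hu, by rw [inv_mul_cancel_left]; exact hmemM c (hblock c hcst)⟩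
  have hidx : M.index = p := by
    let f : ↥(P : Subgroup K) ⧸ M.subgroupOf (P : Subgroup K) → K ⧸ M :=
      Quotient.map' (fun u => (u : K)) fun a b h => by
        rw [QuotientGroup.leftRel_apply] at h ⊢; exact h
    have hf : Function.Bijective f := by
      refine ⟨?_, fun y => ?_⟩
      · rintro ⟨a⟩ ⟨b⟩ h
        have h' : (QuotientGroup.mk (a : K) : K ⧸ M) = QuotientGroup.mk (b : K) := h
        refine Quotient.sound' (QuotientGroup.leftRel_apply.2 ?_)
        exact (QuotientGroup.eq (s := M)).1 h'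
      · obtain ⟨g, rfl⟩ := QuotientGroup.mk_surjective y
        obtain ⟨u, hu, hug⟩ := hsurj g
        exact ⟨QuotientGroup.mk ⟨u, hu⟩, QuotientGroup.eq.2 hug⟩
    have hcard : M.index = M.relIndex (P : Subgroup K) := (Nat.card_congr (Equiv.ofBijective f hf)).symm
    obtain ⟨i, hi⟩ := P.isPGroup'.index (M.subgroupOf (P : Subgroup K))
    have hi' : M.index = p ^ i := hcard.trans hi
    -- the conjugates of `e` lie in `E` minus the identity
    let g : ↥(P : Subgroup K) ⧸ (Subgroup.centralizer ({e} : Set K)).subgroupOf (P : Subgroup K) → ↥E :=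
      Quotient.lift (fun u : ↥(P : Subgroup K) =>
        (⟨(u : K) * e * (u : K)⁻¹, by simpa using hPE _ (inv_mem u.2) e heE⟩ : ↥E)) fun a b h => by
        have h'' : QuotientGroup.leftRel ((Subgroup.centralizer ({e} : Set K)).subgroupOf (P : Subgroup K)) a b := h
        have h' : (a : K)⁻¹ * b ∈ Subgroup.centralizer ({e} : Set K) := (QuotientGroup.leftRel_apply (s := (Subgroup.centralizer ({e} : Set K)).subgroupOf (P : Subgroup K))).1 h''
        rw [Subgroup.mem_centralizer_singleton_iff] at h'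
        refine Subtype.ext ?_
        show (a : K) * e * (a : K)⁻¹ = b * e * (b : K)⁻¹
        calc (a : K) * e * (a : K)⁻¹ = a * (e * ((a : K)⁻¹ * b)) * (b : K)⁻¹ := by group
          _ = a * (((a : K)⁻¹ * b) * e) * (b : K)⁻¹ := by rw [h']
          _ = b * e * (b : K)⁻¹ := by group
    have hg : Function.Injective g := by
      rintro ⟨a⟩ ⟨b⟩ h
      have h' : (a : K) * e * (a : K)⁻¹ = b * e * (b : K)⁻¹ := congrArg Subtype.val h
      refine Quotient.sound' (QuotientGroup.leftRel_apply.2 (Subgroup.mem_centralizer_singleton_iff.2 ?_))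
      calc ((a : K)⁻¹ * b) * e = (a : K)⁻¹ * (b * e * (b : K)⁻¹) * b := by group
        _ = e * ((a : K)⁻¹ * b) := by rw [← h']; group
    obtain ⟨j, hj⟩ := P.isPGroup'.index ((Subgroup.centralizer ({e} : Set K)).subgroupOf (P : Subgroup K))
    have hlt : p ^ j < p ^ 2 := by
      haveI := Fintype.ofFinite ↥E
      rw [← hj, ← hEcard, Subgroup.index, Nat.card_eq_fintype_card (α := ↥E)]
      haveI := Fintype.ofFinite (↥(P : Subgroup K) ⧸ (Subgroup.centralizer ({e} : Set K)).subgroupOf (P : Subgroup K))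
      rw [Nat.card_eq_fintype_card]
      exact Fintype.card_lt_of_injective_of_notMem g hg (b := 1) fun ⟨x, hx⟩ => by
        induction x using QuotientGroup.induction_on with
        | _ a => exact he1 (conj_eq_one_iff.1 (congrArg Subtype.val hx))
    have hj2 : j ≤ 1 := by have := (Nat.pow_lt_pow_iff_right hpp.one_lt).1 hlt; omega
    have hle : p ^ i ≤ p ^ j := by
      rw [← hi', hcard, ← hj]
      refine Nat.le_of_dvd (Nat.pos_of_ne_zero Subgroup.index_ne_zero_of_finite) ?_
      exact Subgroup.index_dvd_of_le fun u hu => (Subgroup.mem_inf.1 (hCP (Subgroup.mem_inf.2 ⟨u.2, hu⟩))).2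
    have := (Nat.pow_le_pow_iff_right hpp.one_lt).1 hle
    rcases i with _ | i
    · exact absurd (Subgroup.index_eq_one.1 (by rw [hi', pow_zero])) hMtop
    · rw [hi', show i = 0 by omega, zero_add, pow_one]
  refine perm_false hperf hodd hpp M hMtop ?_
  haveI := Fintype.ofFinite (K ⧸ M)
  classical
  haveI : MulAction.IsPretransitive (MulAction.toPermHom K (K ⧸ M)).range (K ⧸ M) := ⟨fun a b => by
    obtain ⟨g, hg⟩ := MulAction.exists_smul_eq K a b
    exact ⟨⟨_, g, rfl⟩, hg⟩⟩
  by_cases hp2 : p = 2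
  · subst hp2
    left
    haveI := Subgroup.normal_of_index_eq_two hidx
    exfalso
    have h2 : Nat.card (K ⧸ M) = 2 := hidx
    have hcomm : commutator K ≤ M := by
      haveI : IsCyclic (K ⧸ M) := isCyclic_of_prime_card h2
      letI := IsCyclic.commGroup (α := K ⧸ M)
      rw [commutator_def, Subgroup.commutator_le]
      intro a _ b _
      rw [← QuotientGroup.eq_one_iff, commutatorElement_def, QuotientGroup.mk_mul, QuotientGroup.mk_mul,
        QuotientGroup.mk_mul, QuotientGroup.mk_inv, QuotientGroup.mk_inv,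
        mul_comm ((a : K) : K ⧸ M) b, mul_assoc ((b : K) : K ⧸ M), mul_inv_cancel, mul_one, mul_inv_cancel]
    exact hMtop (top_le_iff.1 (hperf ▸ hcomm))
  rcases S0675.result (by rw [← Nat.card_eq_fintype_card]; show (M.index).Prime; rw [hidx]; exact hpp)
      (MulAction.toPermHom K (K ⧸ M)).range with h | h
  · exact Or.inl h
  · exact Or.inr ⟨h, hp2⟩

end Cfsg.Agent.Solv.BaerQ
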