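import Cfsg.Agent.Lib.Solv.BaerQ.Core

/-!
Coprime groups of automorphisms of an abelian group with orbits of `p`-power length are solvable: the reduction.
-/

set_option autoImplicit false
set_option linter.style.haveILetI false

namespace Cfsg.Agent.Solv.BaerQ

universe u

variable {W : Type u} [Group W] [Finite W]

/-- A perfect coprime group acting with orbits of `p`-power length acts trivially. -/
theorem perfect_trivial {K : Type u} [Group K] [Finite K] (ψ : K →* MulAut W) {p q : ℕ} [hp : Fact p.Prime]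
    [hq : Fact q.Prime] (hc : ∀ x y : W, x * y = y * x) (hW : IsPGroup q W) (hKq : (Nat.card K).Coprime q)
    (horb : POrb ψ p) (hperf : commutator K = ⊤) (hpq : p ≠ q) : ∀ g w, ψ g w = w := by
  classical
  by_contra hall
  push Not at hall
  let Pd : Subgroup W → Prop := fun U => (∀ g : K, ∀ w ∈ U, ψ g w ∈ U) ∧ ∃ g : K, ∃ w ∈ U, ψ g w ≠ w
  obtain ⟨g₁, w₁, h₁⟩ := hall
  obtain ⟨U, -, hU⟩ := Finite.exists_le_minimal (p := Pd) (a := ⊤)
    ⟨fun _ _ _ => Subgroup.mem_top _, g₁, w₁, Subgroup.mem_top _, h₁⟩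
  obtain ⟨hUinv, g₀, w₀, hw₀, hmov⟩ := hU.1
  let θ : K →* MulAut U :=
    { toFun := fun g =>
        { toFun := fun u => ⟨ψ g u, hUinv g u u.2⟩
          invFun := fun u => ⟨ψ g⁻¹ u, hUinv g⁻¹ u u.2⟩
          left_inv := fun u => Subtype.ext (by simp)
          right_inv := fun u => Subtype.ext (by simp)
          map_mul' := fun u v => Subtype.ext (by simp) }
      map_one' := MulEquiv.ext fun u => Subtype.ext (by simp)
      map_mul' := fun a b => MulEquiv.ext fun u => Subtype.ext (by simp) }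
  have hθ : ∀ g (u : U), ((θ g u : U) : W) = ψ g u := fun _ _ => rfl
  -- proper invariant subgroups are fixed pointwise
  have hsmall : ∀ V : Subgroup U, (∀ g : K, ∀ u ∈ V, θ g u ∈ V) → V ≠ ⊤ → ∀ g, ∀ u ∈ V, θ g u = u := by
    intro V hV hne g u hu
    by_contra hmv
    have hle : V.map U.subtype ≤ U := Subgroup.map_subtype_le V
    have hP : Pd (V.map U.subtype) := by
      refine ⟨?_, g, u, ⟨u, hu, rfl⟩, fun e => hmv (Subtype.ext e)⟩
      rintro k _ ⟨v, hv, rfl⟩
      exact ⟨θ k v, hV k v hv, rfl⟩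
    have heq : V.map U.subtype = U := le_antisymm hle (hU.2 hP hle)
    refine hne ((Subgroup.eq_top_iff' V).2 fun v => ?_)
    obtain ⟨v', hv', he⟩ : (v : W) ∈ V.map U.subtype := by rw [heq]; exact v.2
    rwa [← Subtype.ext he]
  haveI hWU : IsPGroup q U := hW.to_subgroup U
  have hdist : ∀ u : U, u ^ Nat.card K = 1 → u = 1 := by
    intro u hu
    obtain ⟨k, hk⟩ := hWU u
    refine orderOf_eq_one_iff.1 (Nat.dvd_one.1 ?_)
    rw [← Nat.Coprime.gcd_eq_one (hKq.pow_right k)]
    exact Nat.dvd_gcd (orderOf_dvd_of_pow_eq_one hu) (orderOf_dvd_of_pow_eq_one hk)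
  letI : CommGroup U := { (inferInstance : Group U) with mul_comm := fun a b => Subtype.ext (hc a b) }
  haveI := Fintype.ofFinite K
  let e : U →* U :=
    { toFun := fun u => ∏ k : K, θ k u
      map_one' := by simp
      map_mul' := fun a b => by simp [Finset.prod_mul_distrib] }
  have heinv : ∀ g u, e (θ g u) = e u := fun g u => by
    refine Fintype.prod_equiv (Equiv.mulRight g) _ _ fun k => ?_
    show θ k (θ g u) = θ (k * g) u
    rw [map_mul, MulAut.mul_apply]
  have hefix : ∀ u, (∀ g, θ g u = u) → e u = u ^ Nat.card K := fun u hu => by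
    show ∏ k : K, θ k u = _
    rw [Finset.prod_congr rfl fun k _ => hu k, Finset.prod_const, Finset.card_univ, Nat.card_eq_fintype_card]
  have hker : e.ker = ⊤ := by
    by_contra hne
    have hf := hsmall e.ker (fun g u hu => by rw [MonoidHom.mem_ker, heinv]; exact hu) hne
    apply hmov
    set d := θ g₀ ⟨w₀, hw₀⟩ * (⟨w₀, hw₀⟩ : U)⁻¹ with hd
    have hdk : d ∈ e.ker := by rw [MonoidHom.mem_ker, hd, map_mul, heinv, map_inv, mul_inv_cancel]
    have hd1 : d = 1 := hdist d (by rw [← hefix d fun g => hf g d hdk]; exact hdk)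
    exact congrArg Subtype.val (mul_inv_eq_one.1 hd1)
  have hfix0 : ∀ u : U, (∀ g, θ g u = u) → u = 1 := fun u hu =>
    hdist u (by rw [← hefix u hu]; exact (hker ▸ Subgroup.mem_top u : u ∈ e.ker))
  have hirr : ∀ V : Subgroup U, (∀ g : K, ∀ u ∈ V, θ g u ∈ V) → V = ⊥ ∨ V = ⊤ := fun V hV => by
    by_cases h : V = ⊤
    · exact Or.inr h
    · exact Or.inl ((Subgroup.eq_bot_iff_forall V).2 fun u hu => hfix0 u fun g => hsmall V hV h g u hu)
  have hU1 : Nontrivial U := ⟨⟨w₀, hw₀⟩, 1, fun e => hmov (by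
    rw [show w₀ = 1 from congrArg Subtype.val e, map_one])⟩
  let V : Subgroup U :=
    { carrier := {u | u ^ q = 1}
      one_mem' := one_pow q
      mul_mem' := fun {a b} (ha : _ = 1) (hb : _ = 1) => show (a * b) ^ q = 1 by rw [mul_pow, ha, hb, one_mul]
      inv_mem' := fun {a} (ha : _ = 1) => show (a⁻¹) ^ q = 1 by rw [inv_pow, ha, inv_one] }
  have hVtop : V = ⊤ := by
    refine (hirr V fun g u (hu : u ^ q = 1) => show (θ g u) ^ q = 1 by rw [← map_pow, hu, map_one]).resolve_left fun h => ?_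
    obtain ⟨k, hk0, hk⟩ := (IsPGroup.nontrivial_iff_card hWU).1 hU1
    obtain ⟨u, hu⟩ := exists_prime_orderOf_dvd_card' (G := U) q (hk ▸ dvd_pow_self q hk0.ne')
    have : u ∈ V := show u ^ q = 1 from hu ▸ pow_orderOf_eq_one u
    rw [h, Subgroup.mem_bot] at this
    rw [this, orderOf_one] at hu
    exact hq.out.one_lt.ne hu
  set R := θ.range
  have hRperf : commutator R = ⊤ := by
    rw [commutator_def, ← Subgroup.map_top_of_surjective θ.rangeRestrict θ.rangeRestrict_surjective,
      ← Subgroup.map_commutator, ← commutator_def, hperf]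
  have hR1 : Nontrivial R := by
    refine ⟨⟨θ g₀, g₀, rfl⟩, 1, fun e => hmov ?_⟩
    have h : θ g₀ = 1 := congrArg Subtype.val e
    have := congrArg Subtype.val (DFunLike.congr_fun h ⟨w₀, hw₀⟩)
    exact this
  have hRorb : POrb R.subtype p := by
    intro u
    obtain ⟨a, ha⟩ := horb (u : W)
    refine ⟨a, ?_⟩
    rw [← ha, ← Subgroup.index_comap_of_surjective (stab R.subtype u) θ.rangeRestrict_surjective]
    congr 1
    ext g
    exact ⟨fun h => congrArg Subtype.val h, fun h => Subtype.ext h⟩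
  have hirrR : ∀ V : Subgroup U, (∀ r : R, ∀ u ∈ V, R.subtype r u ∈ V) → V = ⊥ ∨ V = ⊤ := fun V hV =>
    hirr V fun g u hu => hV ⟨θ g, g, rfl⟩ u hu
  have hRq : (Nat.card R).Coprime q := hKq.coprime_dvd_left (Subgroup.card_range_dvd θ)
  have hexp : ∀ u : U, u ^ q = 1 := fun u => (hVtop ▸ Subgroup.mem_top u : u ∈ V)
  rcases eq_or_ne p 2 with hp2 | hp2
  · exact two_false R.subtype (fun a b => mul_comm a b) hexp hU1 R.subtype_injective hRorb hRperf hR1 hRq hpq hirrR hp2
  · exact odd_false R.subtype (fun a b => mul_comm a b) hexp hU1 R.subtype_injective hRorb hRperf hR1 hRq hpq hirrR hp2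

/-- A coprime faithful group with orbits of `p`-power length is solvable. -/
theorem orbit_solvable {H : Type u} [Group H] [Finite H] (φ : H →* MulAut W) {p q : ℕ} [hp : Fact p.Prime]
    [hq : Fact q.Prime] (hc : ∀ x y : W, x * y = y * x) (hW : IsPGroup q W) (hHq : (Nat.card H).Coprime q)
    (hinj : Function.Injective φ) (horb : POrb φ p) (hpq : p ≠ q) : Group.IsSolvable H := by
  classical
  have hex : ∃ c, ∃ n, Nat.card (derivedSeries H n) = c := ⟨_, 0, rfl⟩
  obtain ⟨n, hn⟩ := Nat.find_spec hex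
  set K := derivedSeries H n with hK
  have hst : derivedSeries H (n + 1) = K :=
    Subgroup.eq_of_le_of_card_ge (derivedSeries_antitone H (Nat.le_succ n))
      (hn ▸ Nat.find_min' hex ⟨n + 1, rfl⟩)
  refine (Group.isSolvable_def H).2 ⟨n, ?_⟩
  haveI : K.Normal := derivedSeries_normal H n
  have hperf : commutator K = ⊤ := by
    apply Subgroup.map_injective K.subtype_injective
    rw [Subgroup.map_subtype_commutator, ← MonoidHom.range_eq_map, Subgroup.range_subtype]
    rw [derivedSeries_succ] at hst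
    exact hst
  have horbK : POrb (φ.comp K.subtype) p := by
    intro w
    obtain ⟨a, ha⟩ := horb w
    have h1 : (stab (φ.comp K.subtype) w).index = (stab φ w).relIndex K := rfl
    have h2 : (stab φ w).relIndex K ∣ p ^ a := by
      rw [← ha]
      obtain ⟨t, ht⟩ := Subgroup.relIndex_dvd_index_of_normal K (stab φ w)
      have hI := Subgroup.relIndex_mul_index (inf_le_right : stab φ w ⊓ K ≤ K)
      have hJ := Subgroup.relIndex_mul_index (inf_le_left : stab φ w ⊓ K ≤ stab φ w)
      rw [Subgroup.inf_relIndex_right] at hI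
      rw [Subgroup.inf_relIndex_left, ← hI, ht] at hJ
      refine ⟨t, Nat.eq_of_mul_eq_mul_left (n := K.relIndex (stab φ w)) (Nat.pos_of_ne_zero ?_) ?_⟩
      · exact fun e => Subgroup.index_ne_zero_of_finite (H := K) (by rw [ht, e, zero_mul])
      · rw [hJ]; ring
    obtain ⟨b, -, hb⟩ := (Nat.dvd_prime_pow hp.out).1 h2
    exact ⟨b, h1.trans hb⟩
  have h := perfect_trivial (φ.comp K.subtype) hc hW (hHq.coprime_dvd_left (Subgroup.card_subgroup_dvd_card K))
    horbK hperf hpq
  exact (Subgroup.eq_bot_iff_forall _).2 fun g hg => hinj (MulEquiv.ext fun w => by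
    rw [map_one, MulAut.one_apply]; exact h ⟨g, hg⟩ w)

end Cfsg.Agent.Solv.BaerQ
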