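import Cfsg.Agent.Lib.Solv.BaerQ.Classes
import Cfsg.Agent.Lib.Solv.BaerQ.Solvable
import Cfsg.Agent.Lib.Solv.Cores
import Cfsg.Agent.Lib.Solv.SZ
import Cfsg.Agent.Lib.Solv.Parts
import Cfsg.Agent.Lib.Fusion.Basic
import Cfsg.Agent.S4037

/-!
Groups in which all elements of `q`-power order have prime power class size.
-/

set_option autoImplicit false
set_option linter.style.haveILetI false

open Cfsg
open scoped Pointwise

namespace Cfsg.Agent.Solv.BaerQ

universe u

variable {G : Type u} [Group G] [Finite G] (q : ℕ) [hq : Fact q.Prime]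

/-- Without normal subgroups of order prime to `q`, a `q`-element with prime power class size lies in `O_q`. -/
theorem mem_pCore_of_core_bot (hbot : pPrimeCore q G = ⊥) {x : G} (hx : ∃ k, orderOf x = q ^ k) {r a : ℕ}
    (hr : r.Prime) (ha : (Subgroup.centralizer ({x} : Set G)).index = r ^ a) : x ∈ pCore q G := by
  by_cases hrq : r = q
  · exact mem_pCore_of_index hx (hrq ▸ ha)
  set N := Subgroup.normalClosure ({x} : Set G)
  have hsol : Group.IsSolvable N := Cfsg.Agent.S4037.result x hr a (by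
    rw [← Nat.card_coe_set_eq, ← ConjAct.orbit_eq_carrier_conjClasses, Nat.card_coe_set_eq, ← MulAction.index_stabilizer,
      ConjAct.stabilizer_eq_centralizer]
    exact ha)
  obtain ⟨S, hS⟩ := exists_sylow_le (p := q) (Subgroup.centralizer ({x} : Set G))
    (ha ▸ not_dvd_pow hq.out hr (Ne.symm hrq))
  -- the Fitting subgroup of the normal closure
  have hF : (fittingSubgroup N).map N.subtype ≤ pCore q G := by
    rw [Solv.fitting_eq_iSup_pCore, Subgroup.map_iSup]
    refine iSup_le fun s => ?_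
    haveI := Fact.mk s.2
    haveI := Char.TISocle.pCore_characteristic (G := ↥N) (p := (s : ℕ))
    have hp := (Fusion.isPGroup_pCore (s : ℕ) N).map N.subtype
    by_cases hsq : (s : ℕ) = q
    · exact Fusion.le_pCore (hsq ▸ hp)
    · obtain ⟨k, hk⟩ := IsPGroup.iff_card.1 hp
      have h := Fusion.le_pPrimeCore (p := q) (N := (pCore (s : ℕ) N).map N.subtype)
        (hk ▸ Nat.Coprime.pow_left k ((Nat.coprime_primes s.2 hq.out).2 hsq))
      rw [hbot] at h
      exact h.trans bot_le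
  have hxN : x ∈ N := Subgroup.subset_normalClosure rfl
  have hxc : (⟨x, hxN⟩ : N) ∈ Subgroup.centralizer (fittingSubgroup N : Set N) := by
    refine Subgroup.mem_centralizer_iff.2 fun f hf => Subtype.ext ?_
    have h2 : (f : G) ∈ (S : Subgroup G) := Fusion.pCore_le_sylow S (hF ⟨f, hf, rfl⟩)
    exact Subgroup.mem_centralizer_singleton_iff.1 (hS h2)
  exact hF ⟨_, Solv.centralizer_fitting_le hsol hxc, rfl⟩

theorem qElem_of_mem {P : Subgroup G} (hP : IsPGroup q P) {x : G} (hx : x ∈ P) : ∃ k, orderOf x = q ^ k := by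
  obtain ⟨k, hk⟩ := IsPGroup.iff_orderOf.1 hP ⟨x, hx⟩
  exact ⟨k, by rw [← hk, ← Subgroup.orderOf_coe]⟩

/-- Baer's theorem. -/
theorem main (hBaer : ∀ x : G, (∃ k : ℕ, orderOf x = q ^ k) →
    ∃ (r : ℕ) (a : ℕ), r.Prime ∧ (Subgroup.centralizer ({x} : Set G)).index = r ^ a) (Q : Sylow q G) :
    (∃ K L : Subgroup G, K.Normal ∧ L.Normal ∧ K ≤ L ∧ (Nat.card K).Coprime q ∧ (∃ m : ℕ, K.relIndex L = q ^ m) ∧ L.index.Coprime q) ∧
    ∃ p : ℕ, p.Prime ∧ (∀ x : G, (∃ k : ℕ, orderOf x = q ^ k) → ∃ a : ℕ, (Subgroup.centralizer ({x} : Set G)).index = p ^ a) ∧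
      (p = q → (Q : Subgroup G).Normal ∧ ∃ N : Subgroup G, N.Normal ∧ N.IsComplement' (Q : Subgroup G)) ∧
      (p ≠ q → IsMulCommutative (Q : Subgroup G) ∧ (Cfsg.pCore p G ⊔ (Q : Subgroup G)).Normal ∧
        ∀ _h : (Cfsg.pPrimeCore q G).Normal, Group.IsSolvable (G ⧸ Cfsg.pPrimeCore q G)) := by
  classical
  haveI hKn : (pPrimeCore q G).Normal := Solv.pPrimeCore_normal q
  set K := pPrimeCore q G with hK
  have hKco : (Nat.card K).Coprime q := Fusion.card_pPrimeCore_coprime q G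
  set π := QuotientGroup.mk' K
  have hπ := QuotientGroup.mk'_surjective K
  set Vb := pCore q (G ⧸ K) with hVb
  haveI hVn : Vb.Normal := Solv.pCore_normal q
  have hbot : pPrimeCore q (G ⧸ K) = ⊥ := Fusion.pPrimeCore_quotient_eq_bot
  have hQe : ∀ x ∈ (Q : Subgroup G), ∃ k, orderOf x = q ^ k := fun x hx => qElem_of_mem q Q.isPGroup' hx
  have hidxπ : ∀ x : G, (Subgroup.centralizer ({π x} : Set (G ⧸ K))).index ∣ (Subgroup.centralizer ({x} : Set G)).index := by
    intro x
    refine dvd_trans (Subgroup.index_dvd_of_le ?_) (Subgroup.index_map_dvd _ hπ)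
    rintro _ ⟨c, hc, rfl⟩
    rw [Subgroup.mem_centralizer_singleton_iff, ← map_mul, ← map_mul, Subgroup.mem_centralizer_singleton_iff.1 hc]
  -- the image of `Q` is normal
  have hQV : (Q : Subgroup G).map π ≤ Vb := by
    rintro _ ⟨x, hx, rfl⟩
    obtain ⟨r, a, hr, ha⟩ := hBaer x (hQe x hx)
    obtain ⟨b, -, hb⟩ := (Nat.dvd_prime_pow hr).1 (ha ▸ hidxπ x)
    exact mem_pCore_of_core_bot q hbot (qElem_of_mem q (Q.isPGroup'.map π) ⟨x, hx, rfl⟩) hr hb
  have hVQ : Vb ≤ (Q : Subgroup G).map π := Fusion.pCore_le_sylow (Q.mapSurjective hπ)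
  have hVeq : (Q : Subgroup G).map π = Vb := le_antisymm hQV hVQ
  set L := Vb.comap π with hL
  haveI hLn : L.Normal := inferInstance
  have hKL : K ≤ L := fun k hk => by
    show π k ∈ Vb
    rw [show π k = 1 from (QuotientGroup.eq_one_iff k).2 hk]; exact one_mem Vb
  have hQL : (Q : Subgroup G) ≤ L := fun x hx => hQV ⟨x, hx, rfl⟩
  have hQK : ∀ x ∈ (Q : Subgroup G), x ∈ K → x = 1 := fun x hx hxK => by
    obtain ⟨k, hk⟩ := hQe x hx
    refine orderOf_eq_one_iff.1 (Nat.eq_one_of_dvd_coprimes (hKco.pow_right k) ?_ hk.dvd)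
    exact Subgroup.orderOf_dvd_natCard _ hxK
  refine ⟨⟨K, L, hKn, hLn, hKL, hKco, ?_, ?_⟩, ?_⟩
  · obtain ⟨m, hm⟩ := IsPGroup.iff_card.1 (Fusion.isPGroup_pCore q (G ⧸ K))
    refine ⟨m, ?_⟩
    have h := Subgroup.relIndex_ker (K := L) π
    rw [QuotientGroup.ker_mk', hL, Subgroup.map_comap_eq_self_of_surjective hπ] at h
    exact h.trans hm
  · exact Nat.Coprime.symm ((Nat.Prime.coprime_iff_not_dvd hq.out).2 fun hd =>
      Q.not_dvd_index (hd.trans (Subgroup.index_dvd_of_le hQL)))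
  -- classes of size prime to `q` are central in `Q`
  have hcentral : ∀ x ∈ (Q : Subgroup G), ∀ {r a : ℕ}, r.Prime → r ≠ q →
      (Subgroup.centralizer ({x} : Set G)).index = r ^ a → ∀ u ∈ (Q : Subgroup G), x * u = u * x := by
    intro x hx r a hr hrq ha u hu
    obtain ⟨b, -, hb⟩ := (Nat.dvd_prime_pow hr).1 (ha ▸ hidxπ x)
    obtain ⟨S, hS⟩ := exists_sylow_le (p := q) (Subgroup.centralizer ({π x} : Set (G ⧸ K)))
      (hb ▸ not_dvd_pow hq.out hr (Ne.symm hrq))
    have h1 : π u * π x = π x * π u :=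
      Subgroup.mem_centralizer_singleton_iff.1 (hS (Fusion.pCore_le_sylow S (hQV ⟨u, hu, rfl⟩)))
    refine mul_inv_eq_one.1 (hQK _ (mul_mem (mul_mem hx hu) (inv_mem (mul_mem hu hx))) ((QuotientGroup.eq_one_iff _).1 ?_))
    show π (x * u * (u * x)⁻¹) = 1
    rw [map_mul, map_inv, map_mul, map_mul, h1, mul_inv_cancel]
  have hconjQ : ∀ x : G, (∃ k, orderOf x = q ^ k) → ∃ y ∈ (Q : Subgroup G),
      (Subgroup.centralizer ({x} : Set G)).index = (Subgroup.centralizer ({y} : Set G)).index := by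
    rintro x ⟨k, hk⟩
    obtain ⟨S, hS⟩ := (IsPGroup.of_card (G := Subgroup.zpowers x) (p := q) (n := k)
      (by rw [Nat.card_zpowers, hk])).exists_le_sylow
    obtain ⟨g, hg⟩ := MulAction.exists_smul_eq G S Q
    refine ⟨g * x * g⁻¹, ?_, ?_⟩
    · rw [← hg, Sylow.coe_subgroup_smul]
      exact ⟨x, hS (Subgroup.mem_zpowers x), rfl⟩
    · rw [← card_cls, ← card_cls]
      have : cls (g * x * g⁻¹) = cls x := Set.ext fun v =>
        ⟨fun ⟨h, e⟩ => ⟨h * g, by rw [← e]; group⟩, fun ⟨h, e⟩ => ⟨h * g⁻¹, by rw [← e]; group⟩⟩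
      rw [this]
  -- a complement centralizing `Q`
  have hfinish : (Q : Subgroup G).Normal → ∀ K0 : Subgroup G, K0.IsComplement' (Q : Subgroup G) →
      (∀ z ∈ (Q : Subgroup G), ∀ k ∈ K0, z * k = k * z) →
      ∃ p : ℕ, p.Prime ∧ (∀ x : G, (∃ k : ℕ, orderOf x = q ^ k) → ∃ a : ℕ, (Subgroup.centralizer ({x} : Set G)).index = p ^ a) ∧
      (p = q → (Q : Subgroup G).Normal ∧ ∃ N : Subgroup G, N.Normal ∧ N.IsComplement' (Q : Subgroup G)) ∧
      (p ≠ q → IsMulCommutative (Q : Subgroup G) ∧ (Cfsg.pCore p G ⊔ (Q : Subgroup G)).Normal ∧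
        ∀ _h : (Cfsg.pPrimeCore q G).Normal, Group.IsSolvable (G ⧸ Cfsg.pPrimeCore q G)) := by
    intro hQn K0 hK0 hcomm
    haveI := hQn
    refine ⟨q, hq.out, fun x hx => ?_, fun _ => ⟨hQn, K0, ?_, hK0⟩, fun h => absurd rfl h⟩
    · obtain ⟨y, hy, he⟩ := hconjQ x hx
      obtain ⟨m, hm⟩ := IsPGroup.iff_card.1 Q.isPGroup'
      have hle : K0 ≤ Subgroup.centralizer ({y} : Set G) := fun k hk =>
        Subgroup.mem_centralizer_singleton_iff.2 (hcomm y hy k hk).symm
      obtain ⟨a, -, ha⟩ := (Nat.dvd_prime_pow hq.out).1 (hm ▸ hK0.symm.index_eq_card ▸ Subgroup.index_dvd_of_le hle)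
      exact ⟨a, he.trans ha⟩
    · refine Subgroup.normalizer_eq_top_iff.1 (eq_top_iff.2 ?_)
      rw [← hK0.sup_eq_top]
      refine sup_le Subgroup.le_normalizer fun z hz => Subgroup.centralizer_le_normalizer _ ?_
      exact Subgroup.mem_centralizer_iff.2 fun k hk => (hcomm z hz k hk).symm
  by_cases hab : ∀ x ∈ (Q : Subgroup G), ∀ y ∈ (Q : Subgroup G), x * y = y * x
  swap
  · -- nonabelian Sylow subgroups
    push Not at hab
    obtain ⟨x₁, hx₁, y₁, hy₁, hxy⟩ := hab
    have hnc : ∀ z ∈ (Q : Subgroup G), (∃ u ∈ (Q : Subgroup G), z * u ≠ u * z) →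
        ∃ a, (Subgroup.centralizer ({z} : Set G)).index = q ^ a := by
      rintro z hz ⟨u, hu, hne⟩
      obtain ⟨r, a, hr, ha⟩ := hBaer z (hQe z hz)
      by_cases hrq : r = q
      · exact ⟨a, hrq ▸ ha⟩
      · exact absurd (hcentral z hz hr hrq ha u hu) hne
    have hQO : (Q : Subgroup G) ≤ pCore q G := by
      intro z hz
      by_cases h : ∃ u ∈ (Q : Subgroup G), z * u ≠ u * z
      · obtain ⟨a, ha⟩ := hnc z hz h
        exact mem_pCore_of_index (hQe z hz) ha
      push Not at h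
      obtain ⟨a, ha⟩ := hnc x₁ hx₁ ⟨y₁, hy₁, hxy⟩
      obtain ⟨b, hb⟩ := hnc (z * x₁) (mul_mem hz hx₁) ⟨y₁, hy₁, fun e => hxy (mul_left_cancel (a := z) (by
        rw [← mul_assoc, e, ← mul_assoc, ← h y₁ hy₁]; group))⟩
      have := mul_mem (mem_pCore_of_index (hQe _ (mul_mem hz hx₁)) hb) (inv_mem (mem_pCore_of_index (hQe x₁ hx₁) ha))
      rwa [mul_inv_cancel_right] at this
    have hQn : (Q : Subgroup G).Normal := by
      rw [le_antisymm hQO (Fusion.pCore_le_sylow Q)]; exact Solv.pCore_normal q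
    haveI := hQn
    obtain ⟨K0, hK0⟩ := Subgroup.exists_left_complement'_of_coprime (N := (Q : Subgroup G)) Q.card_coprime_index
    refine hfinish hQn K0 hK0 ?_
    have hQsol : Group.IsSolvable (Q : Subgroup G) := by
      haveI := Q.isPGroup'.isNilpotent
      infer_instance
    let D : Subgroup ↥(Q : Subgroup G) :=
      { carrier := {v | ∀ k ∈ K0, (v : G) * k = k * v}
        one_mem' := fun k _ => by simp
        mul_mem' := fun {v w} hv hw k hk => (show Commute ((v : G) * w) k from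
          Commute.mul_left (hv k hk) (hw k hk)).eq
        inv_mem' := fun {v} hv k hk => (show Commute ((v : G)⁻¹) k from Commute.inv_left (hv k hk)).eq }
    have hconjD : ∀ z : ↥(Q : Subgroup G), (∃ u : ↥(Q : Subgroup G), z * u ≠ u * z) →
        ∃ t : ↥(Q : Subgroup G), t * z * t⁻¹ ∈ D := by
      rintro z ⟨u, hu⟩
      obtain ⟨a, ha⟩ := hnc z z.2 ⟨u, u.2, fun e => hu (Subtype.ext e)⟩
      set C := Subgroup.centralizer ({(z : G)} : Set G) with hC
      have huniv : ((Q : Subgroup G) : Set G) * (C : Set G) = Set.univ := Set.eq_univ_iff_forall.2 fun g => by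
        obtain ⟨u, hu, c, hc, rfl⟩ := exists_mul_of_index C ha Q g
        exact Set.mul_mem_mul hu hc
      have hcard := Solv.card_mul_set_mul_card_inf (Q : Subgroup G) C
      rw [huniv, Nat.card_coe_set_eq, Set.ncard_univ] at hcard
      haveI hn : ((Q : Subgroup G).subgroupOf C).Normal := hQn.subgroupOf C
      have hcN : Nat.card ↥((Q : Subgroup G).subgroupOf C) = Nat.card ↥((Q : Subgroup G) ⊓ C) := by
        rw [← Subgroup.card_map_of_injective C.subtype_injective, Subgroup.subgroupOf_map_subtype]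
      have hidx : ((Q : Subgroup G).subgroupOf C).index = (Q : Subgroup G).index := by
        have h1 := ((Q : Subgroup G).subgroupOf C).card_mul_index
        rw [hcN] at h1
        refine Nat.eq_of_mul_eq_mul_left (Nat.card_pos (α := ↥((Q : Subgroup G) ⊓ C))) (h1.trans ?_)
        refine Nat.eq_of_mul_eq_mul_left (Nat.card_pos (α := ↥(Q : Subgroup G))) ?_
        rw [← hcard, ← (Q : Subgroup G).card_mul_index]; ring
      obtain ⟨Lc, hLc⟩ := Subgroup.exists_left_complement'_of_coprime (N := (Q : Subgroup G).subgroupOf C) (by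
        rw [hidx, hcN]
        exact Q.card_coprime_index.coprime_dvd_left (Subgroup.card_dvd_of_le inf_le_left))
      have hLcard : Nat.card (Lc.map C.subtype) = (Q : Subgroup G).index := by
        rw [Subgroup.card_map_of_injective C.subtype_injective, ← hidx, hLc.index_eq_card]
      obtain ⟨t, ht, he⟩ := Solv.sz_conj (Q : Subgroup G) (Lc.map C.subtype) K0 Q.card_coprime_index hLcard
        hK0.index_eq_card.symm (Or.inl hQsol)
      refine ⟨⟨t, ht⟩, fun k hk => ?_⟩
      rw [← he] at hk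
      obtain ⟨l, ⟨c, _, rfl⟩, rfl⟩ := hk
      show t * (z : G) * t⁻¹ * (t * (c : G) * t⁻¹) = t * (c : G) * t⁻¹ * (t * z * t⁻¹)
      have hcz : (c : G) * z = z * c := Subgroup.mem_centralizer_singleton_iff.1 c.2
      calc t * (z : G) * t⁻¹ * (t * (c : G) * t⁻¹) = t * ((z : G) * c) * t⁻¹ := by group
        _ = _ := by rw [← hcz]; group
    have hM : D ⊔ Subgroup.center ↥(Q : Subgroup G) = ⊤ := Solv.eq_top_of_forall_conj_mem _ fun z => by
      by_cases h : ∃ u : ↥(Q : Subgroup G), z * u ≠ u * z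
      · obtain ⟨t, ht⟩ := hconjD z h
        exact ⟨t, Subgroup.mem_sup_left ht⟩
      · push Not at h
        exact ⟨1, Subgroup.mem_sup_right (by
          rw [one_mul, inv_one, mul_one]; exact Subgroup.mem_center_iff.2 fun g => (h g).symm)⟩
    have hDn : D.Normal := Subgroup.normalizer_eq_top_iff.1 (eq_top_iff.2 (hM ▸ sup_le Subgroup.le_normalizer
      (Subgroup.center_le_normalizer _)))
    have hmemD : ∀ z : ↥(Q : Subgroup G), (∃ u : ↥(Q : Subgroup G), z * u ≠ u * z) → z ∈ D := by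
      intro z h
      obtain ⟨t, ht⟩ := hconjD z h
      have := hDn.conj_mem _ ht t⁻¹
      rwa [show t⁻¹ * (t * z * t⁻¹) * t⁻¹⁻¹ = z by group] at this
    intro z hz k hk
    by_cases h : ∃ u : ↥(Q : Subgroup G), (⟨z, hz⟩ : ↥(Q : Subgroup G)) * u ≠ u * ⟨z, hz⟩
    · exact hmemD _ h k hk
    push Not at h
    have hx' := hmemD ⟨x₁, hx₁⟩ ⟨⟨y₁, hy₁⟩, fun e => hxy (congrArg Subtype.val e)⟩
    have hzx := hmemD (⟨z, hz⟩ * ⟨x₁, hx₁⟩) ⟨⟨y₁, hy₁⟩, fun e => hxy (congrArg Subtype.val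
      (mul_left_cancel (a := (⟨z, hz⟩ : ↥(Q : Subgroup G))) (b := ⟨x₁, hx₁⟩ * ⟨y₁, hy₁⟩) (c := ⟨y₁, hy₁⟩ * ⟨x₁, hx₁⟩)
        (by rw [← mul_assoc, e, ← mul_assoc, ← mul_assoc, h ⟨y₁, hy₁⟩])))⟩
    have := D.mul_mem hzx (D.inv_mem hx') k hk
    simpa using this
  -- abelian Sylow subgroups
  by_cases hall1 : ∀ x ∈ (Q : Subgroup G), (Subgroup.centralizer ({x} : Set G)).index = 1
  · have hQc : ∀ z ∈ (Q : Subgroup G), ∀ g : G, z * g = g * z := fun z hz g => by
      have h : g ∈ Subgroup.centralizer ({z} : Set G) := Subgroup.index_eq_one.1 (hall1 z hz) ▸ Subgroup.mem_top g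
      exact (Subgroup.mem_centralizer_singleton_iff.1 h).symm
    have hQn : (Q : Subgroup G).Normal := ⟨fun z hz g => by rw [← hQc z hz g, mul_inv_cancel_right]; exact hz⟩
    haveI := hQn
    obtain ⟨K0, hK0⟩ := Subgroup.exists_left_complement'_of_coprime (N := (Q : Subgroup G)) Q.card_coprime_index
    exact hfinish hQn K0 hK0 fun z hz k _ => hQc z hz k
  push Not at hall1
  obtain ⟨x₀, hx₀, hx₀1⟩ := hall1
  obtain ⟨p, a₀, hp, ha₀⟩ := hBaer x₀ (hQe x₀ hx₀)
  haveI := Fact.mk hp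
  have ha0 : a₀ ≠ 0 := fun e => hx₀1 (by rw [ha₀, e, pow_zero])
  have hQcen : ∀ x ∈ (Q : Subgroup G), ¬ q ∣ (Subgroup.centralizer ({x} : Set G)).index := fun x hx hd =>
    Q.not_dvd_index (hd.trans (Subgroup.index_dvd_of_le fun u hu =>
      Subgroup.mem_centralizer_singleton_iff.2 (hab u hu x hx)))
  have hpq : p ≠ q := fun e => hQcen x₀ hx₀ (by rw [ha₀, e]; exact dvd_pow_self q ha0)
  have hone : ∀ x ∈ (Q : Subgroup G), ∃ a, (Subgroup.centralizer ({x} : Set G)).index = p ^ a := by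
    intro y hy
    obtain ⟨r, b, hr, hb⟩ := hBaer y (hQe y hy)
    by_cases hy1 : (Subgroup.centralizer ({y} : Set G)).index = 1
    · exact ⟨0, by rw [hy1, pow_zero]⟩
    by_cases hrp : r = p
    · exact ⟨b, hrp ▸ hb⟩
    exfalso
    haveI := Fact.mk hr
    have hb0 : b ≠ 0 := fun e => hy1 (by rw [hb, e, pow_zero])
    have hrq : r ≠ q := fun e => hQcen y hy (by rw [hb, e]; exact dvd_pow_self q hb0)
    obtain ⟨s, c, hs, hc⟩ := hBaer (x₀ * y) (hQe _ (mul_mem hx₀ hy))
    exact two_prime_false (q := q) hs (Ne.symm hrp) hpq hrq (hQe x₀ hx₀) (hQe y hy) (hab x₀ hx₀ y hy) ha₀ hx₀1 hb hy1 hc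
  refine ⟨p, hp, fun x hx => ?_, fun h => absurd h hpq, fun _ => ⟨⟨⟨fun x y => Subtype.ext (hab x x.2 y y.2)⟩⟩, ?_, ?_⟩⟩
  · obtain ⟨y, hy, he⟩ := hconjQ x hx
    obtain ⟨a, ha⟩ := hone y hy
    exact ⟨a, he.trans ha⟩
  · haveI : (pCore p G).Normal := Solv.pCore_normal p
    set M := pCore p G ⊔ (Q : Subgroup G) with hM
    have hKM : K ≤ Subgroup.normalizer (M : Set G) := by
      intro k hk
      refine Fusion.mem_normalizer_of_cj_le ?_
      rw [Fusion.cj, hM, Subgroup.map_sup]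
      refine sup_le ?_ ?_
      · rintro _ ⟨z, hz, rfl⟩
        exact Subgroup.mem_sup_left ((inferInstance : (pCore p G).Normal).conj_mem z hz k)
      · rintro _ ⟨x, hx, rfl⟩
        obtain ⟨a, ha⟩ := hone x hx
        obtain ⟨j, hj⟩ := hQe x hx
        have hco : (orderOf x).Coprime (Nat.card (pPrimeCore q G)) := hj ▸ (hKco.pow_right j).symm
        have h := comm_mem_pCore (p := p) hco ha k hk
        show k * x * k⁻¹ ∈ _
        rw [show k * x * k⁻¹ = (x * k * x⁻¹ * k⁻¹)⁻¹ * x by group]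
        exact mul_mem (Subgroup.mem_sup_left (inv_mem h)) (Subgroup.mem_sup_right hx)
    have hNM : Subgroup.normalizer ((Q : Subgroup G) : Set G) ≤ Subgroup.normalizer (M : Set G) := by
      intro g hg
      refine Fusion.mem_normalizer_of_cj_le ?_
      rw [Fusion.cj, hM, Subgroup.map_sup]
      refine sup_le_sup ?_ (Fusion.cj_eq_self hg).le
      rintro _ ⟨z, hz, rfl⟩
      exact (inferInstance : (pCore p G).Normal).conj_mem z hz g
    refine Subgroup.normalizer_eq_top_iff.1 (eq_top_iff.2 fun g _ => ?_)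
    have hT : Fusion.SylIn q (Q : Subgroup G) L := ⟨hQL, Q.isPGroup', fun hd =>
      Q.not_dvd_index (hd.trans (Subgroup.relIndex_dvd_index_of_le hQL))⟩
    obtain ⟨l, hl, hlg⟩ := Fusion.frattini_conj hT (H := ⊤) (by rw [Subgroup.normalizer_eq_top]) (Subgroup.mem_top g)
    rw [show g = l⁻¹ * (l * g) by group]
    refine mul_mem (inv_mem ?_) (hNM hlg)
    have hl' : π l ∈ (Q : Subgroup G).map π := hVeq.symm ▸ hl
    obtain ⟨u, hu, he⟩ := hl'
    have : u⁻¹ * l ∈ K := QuotientGroup.eq.1 he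
    rw [show l = u * (u⁻¹ * l) by group]
    exact mul_mem (Subgroup.le_normalizer (Subgroup.mem_sup_right hu)) (hKM this)
  intro _
  -- the quotient modulo `O_{q'}`
  have hVc : ∀ a b : Vb, a * b = b * a := by
    rintro ⟨a, ha⟩ ⟨b, hb⟩
    obtain ⟨x, hx, rfl⟩ := hVQ ha
    obtain ⟨y, hy, rfl⟩ := hVQ hb
    refine Subtype.ext ?_
    show π x * π y = π y * π x
    rw [← map_mul, ← map_mul, hab x hx y hy]
  set φ : G ⧸ K →* MulAut Vb := MulAut.conjNormal with hφ
  have hVker : Vb ≤ φ.ker := fun v hv => MonoidHom.mem_ker.2 (MulEquiv.ext fun w => Subtype.ext (by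
    rw [hφ, MulAut.conjNormal_apply, MulAut.one_apply,
      show v * (w : G ⧸ K) = w * v from congrArg Subtype.val (hVc ⟨v, hv⟩ w), mul_inv_cancel_right]))
  have hVidx : (Vb.index).Coprime q := by
    refine Nat.Coprime.symm ((Nat.Prime.coprime_iff_not_dvd hq.out).2 fun hd => ?_)
    rw [← hVeq] at hd
    exact (Q.mapSurjective hπ).not_dvd_index hd
  have hco : (Nat.card φ.range).Coprime q := by
    rw [← Subgroup.index_ker]
    exact hVidx.coprime_dvd_left (Subgroup.index_dvd_of_le hVker)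
  have horb : POrb φ.range.subtype p := by
    intro v
    obtain ⟨x, hx, hxv⟩ := hVQ v.2
    obtain ⟨a, ha⟩ := hone x hx
    have heq : (stab φ.range.subtype v).comap φ.rangeRestrict = Subgroup.centralizer ({(v : G ⧸ K)} : Set (G ⧸ K)) := by
      ext g
      rw [Subgroup.mem_comap, mem_stab, Subgroup.mem_centralizer_singleton_iff]
      constructor
      · intro h
        exact mul_inv_eq_iff_eq_mul.1 (congrArg Subtype.val h)
      · intro h
        refine Subtype.ext ?_
        show g * (v : G ⧸ K) * g⁻¹ = v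
        rw [h, mul_inv_cancel_right]
    obtain ⟨b, -, hb⟩ := (Nat.dvd_prime_pow hp).1 (ha ▸ hxv ▸ hidxπ x)
    exact ⟨b, by rw [← Subgroup.index_comap_of_surjective _ φ.rangeRestrict_surjective, heq]; exact hb⟩
  have hrange : Group.IsSolvable φ.range := orbit_solvable φ.range.subtype hVc (Fusion.isPGroup_pCore q (G ⧸ K)) hco
    φ.range.subtype_injective horb hpq
  have hker : φ.ker ≤ Vb := by
    haveI := Fusion.pPrimeCore_characteristic (G := ↥φ.ker) (p := q)
    have hb : pPrimeCore q ↥φ.ker = ⊥ := by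
      refine (Subgroup.map_eq_bot_iff_of_injective _ φ.ker.subtype_injective).1 (le_bot_iff.1 (hbot ▸ Fusion.le_pPrimeCore ?_))
      rw [Subgroup.card_map_of_injective φ.ker.subtype_injective]
      exact Fusion.card_pPrimeCore_coprime q ↥φ.ker
    set V' := Vb.subgroupOf φ.ker
    have hcoV : (Nat.card V').Coprime V'.index := by
      obtain ⟨m, hm⟩ := IsPGroup.iff_card.1 (Fusion.isPGroup_pCore q (G ⧸ K))
      have h1 : Nat.card V' = q ^ m := (Nat.card_congr (Subgroup.subgroupOfEquivOfLe hVker).toEquiv).trans hm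
      rw [h1]
      exact Nat.Coprime.pow_left m (hVidx.coprime_dvd_left (Subgroup.relIndex_dvd_index_of_le hVker)).symm
    obtain ⟨L0, hL0⟩ := Subgroup.exists_left_complement'_of_coprime (N := V') hcoV
    haveI : L0.Normal := by
      refine Subgroup.normalizer_eq_top_iff.1 (eq_top_iff.2 (hL0.sup_eq_top ▸ sup_le Subgroup.le_normalizer ?_))
      intro v hv
      refine Subgroup.centralizer_le_normalizer _ (Subgroup.mem_centralizer_iff.2 fun l _ => Subtype.ext ?_)
      have := congrArg Subtype.val (DFunLike.congr_fun (MonoidHom.mem_ker.1 l.2) ⟨(v : G ⧸ K), hv⟩)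
      have h3 : ((l : ↥φ.ker) : G ⧸ K) * (v : G ⧸ K) * ((l : ↥φ.ker) : G ⧸ K)⁻¹ = (v : G ⧸ K) := this
      exact mul_inv_eq_iff_eq_mul.1 h3
    have hLbot : L0 = ⊥ := by
      refine le_bot_iff.1 (hb ▸ Fusion.le_pPrimeCore ?_)
      rw [← hL0.index_eq_card]
      exact hVidx.coprime_dvd_left (Subgroup.relIndex_dvd_index_of_le hVker)
    have htop : V' = ⊤ := by rw [← hL0.sup_eq_top, hLbot, bot_sup_eq]
    exact Subgroup.subgroupOf_eq_top.1 htop
  haveI : Group.IsSolvable φ.range := hrange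
  haveI : Group.IsSolvable Vb := by
    haveI := (Fusion.isPGroup_pCore q (G ⧸ K)).isNilpotent
    infer_instance
  exact Group.isSolvable_of_ker_le_range Vb.subtype φ.rangeRestrict (by
    rw [MonoidHom.ker_rangeRestrict, Subgroup.range_subtype]; exact hker)

end Cfsg.Agent.Solv.BaerQ
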