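import Cfsg.Agent.Lib.Lie.ZassenhausEvenTorus
import Cfsg.Agent.Lib.Solv.SetMul
import Cfsg.Agent.Lib.Solv.UniqueSub
import Cfsg.Agent.Lib.Fusion.DihedralFours
import Cfsg.Agent.Lib.Char.Burnside
import Cfsg.Agent.S0111
import Cfsg.Agent.S3761
import Cfsg.Agent.S0675
import Cfsg.Agent.S3972

/-!
Coprime groups of automorphisms of an abelian group all of whose orbits have `p`-power length are solvable.
-/

set_option autoImplicit false
set_option linter.style.haveILetI false

open scoped Pointwise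

namespace Cfsg.Agent.Solv.BaerQ

universe u

/-- A subgroup of `p`-power index is supplemented by any Sylow `p`-subgroup. -/
theorem exists_mul_of_index {G : Type u} [Group G] [Finite G] {p : ℕ} [Fact p.Prime] (C : Subgroup G)
    {a : ℕ} (hC : C.index = p ^ a) (S : Sylow p G) (g : G) :
    ∃ u ∈ (S : Subgroup G), ∃ c ∈ C, g = u * c := by
  classical
  have h := card_mul_set_mul_card_inf (S : Subgroup G) C
  obtain ⟨i, hi⟩ := IsPGroup.iff_card.1 (S.isPGroup'.to_le (inf_le_left : (S : Subgroup G) ⊓ C ≤ S))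
  obtain ⟨s, hs⟩ := IsPGroup.iff_card.1 S.isPGroup'
  have hiC : p ^ i ∣ Nat.card C := hi ▸ Subgroup.card_dvd_of_le inf_le_right
  have hG := C.card_mul_index
  have his : i + a ≤ s := by
    have h1 : p ^ (i + a) ∣ Nat.card G := by
      rw [pow_add, ← hG, ← hC]
      exact mul_dvd_mul_right hiC _
    have h2 := (Nat.Prime.pow_dvd_iff_le_factorization Fact.out Nat.card_pos.ne').1 h1
    have h3 := S.card_eq_multiplicity
    rw [hs] at h3
    rwa [← Nat.pow_right_injective (Fact.out : p.Prime).two_le h3] at h2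
  have hge : Nat.card G ≤ Nat.card ((((S : Subgroup G) : Set G) * (C : Set G) : Set G)) := by
    refine Nat.le_of_mul_le_mul_right ?_ (Nat.card_pos (α := ((S : Subgroup G) ⊓ C : Subgroup G)))
    rw [h, hs, hi, ← hG, hC, mul_assoc, ← pow_add, mul_comm (p ^ s), add_comm a]
    exact Nat.mul_le_mul_left _ (Nat.pow_le_pow_right (Fact.out : p.Prime).pos his)
  have huniv : (((S : Subgroup G) : Set G) * (C : Set G)) = Set.univ :=
    Set.eq_of_subset_of_ncard_le (Set.subset_univ _) (by rw [Set.ncard_univ, ← Nat.card_coe_set_eq]; exact hge)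
  obtain ⟨u, hu, c, hc, he⟩ := Set.mem_mul.1 (huniv.symm.subset (Set.mem_univ g))
  exact ⟨u, hu, c, hc, he.symm⟩

section

variable {K : Type u} [Group K] {W : Type u} [Group W] (φ : K →* MulAut W)

/-- The stabilizer of an element. -/
def stab (w : W) : Subgroup K where
  carrier := {g | φ g w = w}
  one_mem' := by simp
  mul_mem' {a b} ha hb := by
    show φ (a * b) w = w
    rw [map_mul, MulAut.mul_apply, hb, ha]
  inv_mem' {a} ha := by
    show φ a⁻¹ w = w
    conv_lhs => rw [← (ha : φ a w = w)]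
    rw [← MulAut.mul_apply, ← map_mul, inv_mul_cancel, map_one, MulAut.one_apply]

theorem mem_stab {w : W} {g : K} : g ∈ stab φ w ↔ φ g w = w := Iff.rfl

/-- All orbits have `p`-power length. -/
def POrb (p : ℕ) : Prop := ∀ w : W, ∃ a : ℕ, (stab φ w).index = p ^ a

variable [Finite K] [Finite W] {p q : ℕ} [hp : Fact p.Prime] [hq : Fact q.Prime]

/-- An element of order prime to `p` which moves no point out of a line fixes it. -/
theorem line_fixed (horb : POrb φ p) {h : K} {r : ℕ} (hr : r.Prime) (hrp : r ≠ p) (hh : h ^ r = 1)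
    {d : W} (hd : φ h d ∈ Subgroup.zpowers d) : φ h d = d := by
  by_contra hne
  let T : Subgroup K :=
    { carrier := {g | φ g d ∈ Subgroup.zpowers d ∧ φ g⁻¹ d ∈ Subgroup.zpowers d}
      one_mem' := ⟨by simp, by rw [inv_one]; simp⟩
      mul_mem' := fun {a b} ha hb => by
        refine ⟨?_, ?_⟩
        · obtain ⟨k, hk⟩ := Subgroup.mem_zpowers_iff.1 hb.1
          rw [map_mul, MulAut.mul_apply, ← hk, map_zpow]
          exact Subgroup.zpow_mem _ ha.1 k
        · obtain ⟨k, hk⟩ := Subgroup.mem_zpowers_iff.1 ha.2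
          rw [mul_inv_rev, map_mul, MulAut.mul_apply, ← hk, map_zpow]
          exact Subgroup.zpow_mem _ hb.2 k
      inv_mem' := fun {a} ha => ⟨ha.2, by rw [inv_inv]; exact ha.1⟩ }
  have hpow : ∀ n : ℕ, φ (h ^ n) d ∈ Subgroup.zpowers d := by
    intro n
    induction n with
    | zero => simp
    | succ n ih =>
      obtain ⟨k, hk⟩ := Subgroup.mem_zpowers_iff.1 ih
      rw [pow_succ', map_mul, MulAut.mul_apply, ← hk, map_zpow]
      exact Subgroup.zpow_mem _ hd k
  have hhT : h ∈ T := by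
    refine ⟨hd, ?_⟩
    rw [show h⁻¹ = h ^ (r - 1) from inv_eq_of_mul_eq_one_right (by
      rw [← pow_succ', Nat.sub_add_cancel hr.one_le, hh])]
    exact hpow _
  have hST : stab φ d ≤ T := fun g hg => by
    refine ⟨?_, ?_⟩
    · rw [(mem_stab φ).1 hg]; exact Subgroup.mem_zpowers d
    · rw [(mem_stab φ).1 (inv_mem hg)]; exact Subgroup.mem_zpowers d
  have hn : ((stab φ d).subgroupOf T).Normal := ⟨fun s hs g => by
    show φ ((g : K) * (s : K) * (g : K)⁻¹) d = d
    obtain ⟨k, hk⟩ := Subgroup.mem_zpowers_iff.1 g.2.2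
    have hs' : φ (s : K) d = d := hs
    rw [map_mul, map_mul, MulAut.mul_apply, MulAut.mul_apply, ← hk, map_zpow (φ (s : K)), hs', hk,
      ← MulAut.mul_apply, ← map_mul, mul_inv_cancel, map_one, MulAut.one_apply]⟩
  obtain ⟨a, ha⟩ := horb d
  have hd1 : (stab φ d).relIndex T ∣ p ^ a := ha ▸ Subgroup.relIndex_dvd_index_of_le hST
  set x : ↥T ⧸ (stab φ d).subgroupOf T := QuotientGroup.mk (⟨h, hhT⟩ : T) with hx
  have hx1 : x ≠ 1 := fun e => hne ((QuotientGroup.eq_one_iff _).1 e)
  haveI := Fact.mk hr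
  have hxr : orderOf x = r := orderOf_eq_prime (by
    rw [hx, ← QuotientGroup.mk_pow, show (⟨h, hhT⟩ : T) ^ r = 1 from Subtype.ext hh, QuotientGroup.mk_one]) hx1
  have h2 : r ∣ p ^ a := (hxr ▸ orderOf_dvd_natCard x).trans hd1
  exact hrp ((Nat.prime_dvd_prime_iff_eq hr hp.out).1 (hr.dvd_of_dvd_pow h2))

variable (hc : ∀ x y : W, x * y = y * x) (hW : IsPGroup q W) (hK : (Nat.card K).Coprime q)
  (hinj : Function.Injective φ) (horb : POrb φ p)

include hp hq hc hW hK horb in
/-- A coprime element of prime order is not a transvection. -/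
theorem hyper {h : K} {r : ℕ} (hr : r.Prime) (hrp : r ≠ p) (hh : orderOf h = r) (C : Subgroup W)
    (hC : ∀ w, w ∈ C ↔ φ h w = w) : C.index ≠ q := by
  intro hidx
  let δ : W →* W :=
    { toFun := fun w => φ h w * w⁻¹
      map_one' := by simp
      map_mul' := fun a b => by
        rw [map_mul, mul_inv_rev, hc b⁻¹ a⁻¹, mul_assoc, mul_assoc (φ h a), ← mul_assoc (φ h b), hc (φ h b) a⁻¹,
          mul_assoc] }
  have hker : δ.ker = C := by
    ext w
    rw [hC, MonoidHom.mem_ker]
    exact mul_inv_eq_one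
  have hcard : Nat.card δ.range = q := by rw [← Subgroup.index_ker, hker, hidx]
  have hh1 : h ^ r = 1 := hh ▸ pow_orderOf_eq_one h
  obtain ⟨w, hw⟩ : ∃ w, w ∉ C := by
    by_contra hall
    push Not at hall
    rw [(Subgroup.eq_top_iff' C).2 hall, Subgroup.index_top] at hidx
    exact hq.out.one_lt.ne hidx
  have hd1 : δ w ≠ 1 := fun e => hw (by rw [← hker]; exact e)
  have hz : δ.range = Subgroup.zpowers (δ w) :=
    (Subgroup.eq_of_le_of_card_ge (Subgroup.zpowers_le.2 (show δ w ∈ δ.range from ⟨w, rfl⟩)) (by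
      rw [hcard]
      haveI := Fact.mk hq.out
      have h1 : orderOf (⟨δ w, w, rfl⟩ : δ.range) ∣ q := hcard ▸ orderOf_dvd_natCard _
      rcases (Nat.dvd_prime hq.out).1 h1 with h2 | h2
      · exact absurd (congrArg Subtype.val (orderOf_eq_one_iff.1 h2)) hd1
      · rw [Nat.card_zpowers]; rw [← Subgroup.orderOf_coe] at h2; exact h2.ge)).symm
  have hfix : φ h (δ w) = δ w := by
    refine line_fixed φ horb hr hrp hh1 ?_
    rw [← hz]
    exact ⟨φ h w, show φ h (φ h w) * (φ h w)⁻¹ = φ h (φ h w * w⁻¹) by rw [map_mul, map_inv]⟩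
  have hn : ∀ n : ℕ, φ (h ^ n) w = δ w ^ n * w := by
    intro n
    induction n with
    | zero => simp
    | succ n ih =>
      rw [pow_succ', map_mul, MulAut.mul_apply, ih, map_mul, map_pow, hfix, pow_succ, mul_assoc]
      congr 1
      exact (inv_mul_cancel_right (φ h w) w).symm
  have h1 := hn r
  rw [hh1, map_one, MulAut.one_apply] at h1
  have h2 : δ w ^ r = 1 := mul_eq_right.1 h1.symm
  obtain ⟨k, hk⟩ := hW (δ w)
  have hrK : r ∣ Nat.card K := hh ▸ orderOf_dvd_natCard h
  have h3 : orderOf (δ w) ∣ 1 := by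
    rw [← Nat.Coprime.gcd_eq_one ((hK.coprime_dvd_left hrK).pow_right k)]
    exact Nat.dvd_gcd (orderOf_dvd_of_pow_eq_one h2) (orderOf_dvd_of_pow_eq_one hk)
  exact hd1 (orderOf_eq_one_iff.1 (Nat.dvd_one.1 h3))

end

/-- The possible sizes. -/
theorem arith {q D i : ℕ} (hq : Odd q) (hq3 : 3 ≤ q) (hdvd : 2 ^ i ∣ q ^ D - 1) (hlt : q ^ D < (2 ^ i) ^ 2) :
    D ≤ 2 ∨ (q = 3 ∧ D = 4) := by
  rcases Nat.even_or_odd D with ⟨k, rfl⟩ | hD
  · -- `2^i ≤ 2 (q + 1) k`
    have hb : ∀ k : ℕ, 0 < k → ∀ i : ℕ, 2 ^ i ∣ q ^ (2 * k) - 1 → 2 ^ i ≤ 2 * (q + 1) * k := by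
      intro k
      induction k using Nat.strong_induction_on with
      | _ k ih =>
      intro hk i hi
      rcases Nat.even_or_odd k with ⟨l, rfl⟩ | hko
      · have hfac : q ^ (2 * (l + l)) - 1 = (q ^ (2 * l) + 1) * (q ^ (2 * l) - 1) := by
          rw [← Nat.sq_sub_sq, ← pow_mul, one_pow]; ring_nf
        have h4 : ∃ m, Odd m ∧ q ^ (2 * l) + 1 = 2 * m := by
          obtain ⟨t, ht⟩ := hq.pow (n := l)
          refine ⟨2 * (t * t + t) + 1, ⟨t * t + t, rfl⟩, ?_⟩
          rw [mul_comm 2 l, pow_mul, ht]; ring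
        obtain ⟨m, hm, hqm⟩ := h4
        rw [hfac, hqm] at hi
        rcases i with _ | i
        · simp only [pow_zero]; nlinarith
        rw [pow_succ', mul_assoc] at hi
        have hi' := Nat.dvd_of_mul_dvd_mul_left (by norm_num : 0 < 2) hi
        have := ih l (by omega) (by omega) i ((Nat.Coprime.pow_left i hm.coprime_two_left).dvd_of_dvd_mul_left hi')
        rw [pow_succ']; nlinarith
      · -- odd multiples
        have hgeo : q ^ (2 * k) - 1 = (q ^ 2 - 1) * ∑ j ∈ Finset.range k, (q ^ 2) ^ j := by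
          rw [pow_mul, Nat.mul_comm (q ^ 2 - 1)]
          exact (geom_sum_mul_of_one_le (Nat.one_le_pow _ _ (by omega)) k).symm
        have hs : Odd (∑ j ∈ Finset.range k, (q ^ 2) ^ j) := by
          rw [Finset.odd_sum_iff_odd_card_odd, Finset.filter_true_of_mem (fun j _ => (hq.pow).pow),
            Finset.card_range]
          exact hko
        rw [hgeo] at hi
        have hi' := (Nat.Coprime.pow_left i hs.coprime_two_left).dvd_of_dvd_mul_right hi
        have hq1 : q ^ 2 - 1 = (q + 1) * (q - 1) := by rw [← Nat.sq_sub_sq, one_pow]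
        rw [hq1] at hi'
        obtain ⟨t, rfl⟩ := hq
        rcases Nat.even_or_odd t with ⟨s, rfl⟩ | ⟨s, rfl⟩
        · have : 2 ^ i ∣ (2 * (2 * (s + s))) * (2 * s + 1) := by
            refine dvd_trans hi' (dvd_of_eq ?_); rw [Nat.add_sub_cancel]; ring
          have := Nat.le_of_dvd (by omega)
            ((Nat.Coprime.pow_left i (by simp : Nat.Coprime 2 (2 * s + 1))).dvd_of_dvd_mul_right this)
          nlinarith
        · have : 2 ^ i ∣ (2 * (4 * (s + 1))) * (2 * s + 1) := by
            refine dvd_trans hi' (dvd_of_eq ?_); rw [Nat.add_sub_cancel]; ring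
          have := Nat.le_of_dvd (by omega)
            ((Nat.Coprime.pow_left i (by simp : Nat.Coprime 2 (2 * s + 1))).dvd_of_dvd_mul_right this)
          nlinarith
    rcases Nat.eq_zero_or_pos k with rfl | hk
    · exact Or.inl (by omega)
    have h1 := hb k hk i (by rwa [two_mul])
    have h2 : q ^ k < 2 * (q + 1) * k := by
      refine lt_of_pow_lt_pow_left₀ 2 (Nat.zero_le _) ?_
      rw [← pow_mul, mul_comm k 2, two_mul]
      exact hlt.trans_le (Nat.pow_le_pow_left h1 2)
    rcases Nat.lt_or_ge k 3 with hk3 | hk3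
    · interval_cases k
      · exact Or.inl le_rfl
      · refine Or.inr ⟨?_, rfl⟩
        obtain ⟨t, rfl⟩ := hq
        have : t ≤ 1 := by nlinarith
        omega
    · exfalso
      have h3 : ∀ j, 2 * (q + 1) * (j + 3) ≤ q ^ (j + 3) := by
        intro j
        induction j with
        | zero =>
          have : q ^ (0 + 3) = q * q * q := by ring
          rw [this]
          nlinarith [Nat.mul_le_mul (Nat.mul_le_mul hq3 hq3) (le_refl q)]
        | succ j ihj =>
          calc 2 * (q + 1) * (j + 1 + 3) ≤ 2 * (q + 1) * (j + 3) * 3 := by nlinarith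
            _ ≤ q ^ (j + 3) * q := Nat.mul_le_mul ihj hq3
            _ = q ^ (j + 1 + 3) := by ring
      have := h3 (k - 3)
      rw [Nat.sub_add_cancel hk3] at this
      omega
  · left
    have hgeo : q ^ D - 1 = (q - 1) * ∑ j ∈ Finset.range D, q ^ j := by
      rw [Nat.mul_comm]
      exact (geom_sum_mul_of_one_le (by omega) D).symm
    have hs : Odd (∑ j ∈ Finset.range D, q ^ j) := by
      rw [Finset.odd_sum_iff_odd_card_odd, Finset.filter_true_of_mem (fun j _ => hq.pow), Finset.card_range]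
      exact hD
    rw [hgeo] at hdvd
    have := Nat.le_of_dvd (by omega) ((Nat.Coprime.pow_left i hs.coprime_two_left).dvd_of_dvd_mul_right hdvd)
    by_contra hD2
    have h2 : q ^ 2 ≤ q ^ D := Nat.pow_le_pow_right (by omega) (by omega)
    nlinarith [Nat.pow_le_pow_left (show 2 ^ i ≤ q by omega) 2]

end Cfsg.Agent.Solv.BaerQ
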